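import Groth.Agent.RLpsi.GenOne
import Groth.Agent.RelVA.Basis

/-!
# Ampleness from `r_{L,ψ}`
-/

universe u

open CategoryTheory CategoryTheory.Limits AlgebraicGeometry Opposite TopologicalSpace
open scoped HomogeneousIdeal

set_option backward.isDefEq.respectTransparency.types false

noncomputable section

namespace Groth.RLpsi

open Groth.PicAux Groth.RelTw Groth.PropsBasic.Ample

variable {X : Scheme.{u}} {L : X.Modules} [L.IsQuasicoherent]
  {𝒮L : RelProj.QCGrAlg X} {jL : L ⟶ 𝒮L.toModule} (hjL : RelProj.IsGrSymAlg L 𝒮L jL)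
  (hL : PicF.IsInvertible L)

include hjL hL in
theorem coeff_inj_open {W : X.Opens} {g : Γ(L, W)} (hg : Gen L W g) {n : ℕ} {a b : Γ(X, W)}
    (h : sc 𝒮L W a * jel 𝒮L jL W g ^ n = sc 𝒮L W b * jel 𝒮L jL W g ^ n) : a = b := by
  choose V hV g₀ hxV hVW hg₀ using fun x : W => exists_triv (L := L) hL x.2
  refine TopCat.Sheaf.eq_of_locally_eq' X.sheaf V W (fun x => homOfLE (hVW x))
    (fun y hy => Opens.mem_iSup.2 ⟨⟨y, hy⟩, hxV ⟨y, hy⟩⟩) a b fun x => ?_
  refine coeff_inj hjL (hV x) (hg.res (hVW x)) (n := n) ?_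
  have h1 := congrArg (rs 𝒮L (hVW x)) h
  rw [map_mul, map_mul, map_pow, rs_sc, rs_sc, rs_jel] at h1
  exact h1

include hjL hL in
/-- An element of degree `d` as a section of the `d`-th power. -/
theorem exists_powSection (W : X.Opens) {d : ℕ} (f : 𝒮L.presheaf.obj (op W))
    (hf : ∀ (V : X.Opens) (hV : IsAffineOpen V) (h : V ≤ W), rs 𝒮L h f ∈ 𝒮L.deg V hV d) :
    ∃ t : Γ(CohB1.tensorPow ((Scheme.Modules.pullback W.ι).obj L) d, ⊤), gloc t = W.ι ⁻¹ᵁ nv 𝒮L W f d := by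
  choose V hV g hxV hVW hg using fun x : W => exists_triv (L := L) hL x.2
  choose c hc using fun x => exists_coeff hjL (hV x) (hg x) (hf (V x) (hV x) (hVW x))
  let e : ∀ x, Γ((Scheme.Modules.pullback W.ι).obj L, W.ι ⁻¹ᵁ V x) := fun x => pullSec W.ι L (g x)
  have hcov : (⊤ : (W : Scheme.{u}).Opens) ≤ ⨆ x, W.ι ⁻¹ᵁ V x := fun y _ => Opens.mem_iSup.2 ⟨y, hxV y⟩
  obtain ⟨t, ht, -⟩ := res_glue (M := CohB1.tensorPow ((Scheme.Modules.pullback W.ι).obj L) d) (U := ⊤)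
    (fun x => W.ι ⁻¹ᵁ V x) (fun _ => le_top) hcov (fun x => (W.ι.app (V x)).hom (c x) • powSec (e x) d) fun x y => by
      set T := V x ⊓ V y
      obtain ⟨a, ha⟩ := (hg x).exists_coeff (inf_le_left : T ≤ V x) (res L (inf_le_right : T ≤ V y) (g y))
      have hcc : resX X (inf_le_left : T ≤ V x) (c x) = resX X (inf_le_right : T ≤ V y) (c y) * a ^ d := by
        refine coeff_inj_open hjL hL ((hg x).res (inf_le_left : T ≤ V x)) (n := d) ?_
        have h1 := congrArg (rs 𝒮L (inf_le_left : T ≤ V x)) (hc x)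
        have h2 := congrArg (rs 𝒮L (inf_le_right : T ≤ V y)) (hc y)
        rw [rs_rs, rs_sc_mul_pow] at h1 h2
        rw [← h1, h2, ha, show jel 𝒮L jL T (a • res L (inf_le_left : T ≤ V x) (g x)) =
          sc 𝒮L T a * jel 𝒮L jL T (res L (inf_le_left : T ≤ V x) (g x)) from jL.app_smul a _, mul_pow, map_mul, map_pow]
        ring
      have hnat : ∀ {A B : X.Opens} (h : B ≤ A) (G : Γ(X, A)),
          resX (W : Scheme.{u}) (W.ι.preimage_mono h) ((W.ι.app A).hom G) = (W.ι.app B).hom (resX X h G) := fun h G =>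
        (congr(($(W.ι.naturality (homOfLE h).op)).hom G)).symm
      rw [res_smul, res_smul, res_powSec, res_powSec]
      change resX (W : Scheme.{u}) (W.ι.preimage_mono (inf_le_left : T ≤ V x)) _ •
          powSec (res _ (W.ι.preimage_mono (inf_le_left : T ≤ V x)) (pullSec W.ι L (g x))) d =
        resX (W : Scheme.{u}) (W.ι.preimage_mono (inf_le_right : T ≤ V y)) _ •
          powSec (res _ (W.ι.preimage_mono (inf_le_right : T ≤ V y)) (pullSec W.ι L (g y))) d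
      rw [hnat (inf_le_left : T ≤ V x), hnat (inf_le_right : T ≤ V y), res_pullSec, res_pullSec, ha, pullSec_smul,
        powSec_smul, ← mul_smul, hcc, map_mul, map_pow]
      exact inf_le_right
  refine ⟨t, opens_ext_cover (top_le_iff.1 hcov) fun x => ?_⟩
  rw [gloc_inf_eq_basicOpen (((hg x).pull W.ι).pow d) (ht x), ← Scheme.preimage_basicOpen]
  refine Opens.ext (Set.ext fun w => ⟨fun hw => ⟨(mem_nv_iff hjL (hV x) (hg x) (hVW x) (hc x) (X.basicOpen_le _ hw)).2 hw,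
    X.basicOpen_le _ hw⟩, fun hw => (mem_nv_iff hjL (hV x) (hg x) (hVW x) (hc x) hw.2).1 hw.1⟩)

variable {Y P PL : Scheme.{u}} {q : X ⟶ Y} {pL : PL ⟶ X}
  {chartL : ∀ (U : X.Opens) (hU : IsAffineOpen U), (((pL ⁻¹ᵁ U : PL.Opens) : Scheme.{u}) ≅ Proj (𝒮L.deg U hU))}
  (hPL : RelProj.IsRelProj 𝒮L pL chartL)
  {𝒜 : RelProj.QCGrAlg Y} {p : P ⟶ Y}
  {chart : ∀ (U : Y.Opens) (hU : IsAffineOpen U), (((p ⁻¹ᵁ U : P.Opens) : Scheme.{u}) ≅ Proj (𝒜.deg U hU))}
  (hP : RelProj.IsRelProj 𝒜 p chart)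
  (u : RelProj.QGrHom q 𝒜 𝒮L)
  {r : ((RelProj.domQ u pL chartL : PL.Opens) : Scheme.{u}) ⟶ P}
  (hr : RelProj.IsProjQMapOn u p chart pL chartL (RelProj.domQ u pL chartL) r)

include hjL hL hPL hP hr in
/-- A module whose `r` is everywhere defined and a homeomorphism onto its image is ample. -/
theorem isRelAmple_of_isInducing [QuasiCompact q] (htop : RelProj.domQ u pL chartL = ⊤)
    (hi : Topology.IsInducing r.base) : RelAmple.IsRelAmple q L := by
  refine ⟨inferInstance, fun V => ?_⟩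
  obtain ⟨U, hU⟩ := V
  let W : X.Opens := q ⁻¹ᵁ U
  have : CompactSpace (W : Scheme.{u}) :=
    isCompact_iff_compactSpace.mp (q.isCompact_preimage hU.isCompact)
  refine Groth.Ega2Proj.isAmple_of_iso ((Scheme.Modules.restrictFunctorIsoPullback W.ι).app L).symm
    (isAmple_of_isBasis (isInvertible_pullback W.ι hL) ?_)
  rw [Opens.isBasis_iff_nbhd]
  intro O x hx
  have := isIso_p hjL hPL hL
  have := isOpenImmersion_π hjL hL hPL u
  have hsurj : ∀ y : X, ∃ z, (π u pL chartL).base z = y := fun y => ⟨⟨(inv pL).base y, htop ▸ trivial⟩, by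
    change (inv pL ≫ pL).base y = y
    rw [IsIso.inv_hom_id]; rfl⟩
  obtain ⟨z, hz⟩ := hsurj (W.ι.base x)
  obtain ⟨O', hO', hOO'⟩ := hi.isOpen_iff.1 ((π u pL chartL) ⁻¹ᵁ (W.ι ''ᵁ O)).isOpen
  have hzO : r.base z ∈ O' := by
    have : z ∈ ((π u pL chartL) ⁻¹ᵁ (W.ι ''ᵁ O) : Set _) := ⟨x, hx, hz.symm⟩
    rw [← hOO'] at this
    exact this
  have hpz : p.base (r.base z) ∈ U := by
    change (r ≫ p).base z ∈ U
    rw [Groth.Ega2P2.projQMapOn_comp u hP hPL r hr]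
    exact (congrArg (fun w => q.base w ∈ U) hz).mpr x.2
  obtain ⟨d, f, hd, hf, hzf, hle⟩ := exists_dp_le hP hU hpz (O := ⟨O', hO'⟩) hzO
  obtain ⟨n, rfl⟩ : ∃ n, d = n + 1 := ⟨d - 1, (Nat.succ_pred_eq_of_pos hd).symm⟩
  obtain ⟨t, ht⟩ := exists_powSection hjL hL W ((u.app U).hom f) (rs_mem_deg u hf)
  refine ⟨_, ⟨n, homOfSection t, rfl⟩, ?_, ?_⟩
  · change x ∈ gloc t
    rw [ht]
    exact (congrArg (· ∈ nvU u U (n + 1) f) hz).mp ((mem_dp_iff hjL hL hPL hP u hr hd hf z).1 hzf)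
  · intro w hw
    have hw1 : w ∈ gloc t := hw
    rw [ht] at hw1
    obtain ⟨z', hz'⟩ := hsurj (W.ι.base w)
    have h1 : r.base z' ∈ O' := hle ((mem_dp_iff hjL hL hPL hP u hr hd hf z').2 (hz'.symm ▸ hw1))
    have h2 : z' ∈ ((π u pL chartL) ⁻¹ᵁ (W.ι ''ᵁ O) : Set _) := hOO' ▸ h1
    obtain ⟨w', hw', he⟩ := h2
    exact W.ι.isOpenEmbedding.injective (he.trans hz') ▸ hw'

end Groth.RLpsi
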