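import Groth.Agent.RLpsi.Basic

/-!
# Immersion criteria for `r_{L,ψ}`
-/

universe u

open CategoryTheory CategoryTheory.Limits AlgebraicGeometry Opposite TopologicalSpace
open scoped HomogeneousIdeal

set_option backward.isDefEq.respectTransparency.types false

noncomputable section

namespace Groth.RLpsi

open Groth.PicAux Groth.RelTw

/-- A property local at the target may be checked on a family of opens containing the image. -/
theorem of_cover_range (Q : MorphismProperty Scheme.{u}) [IsZariskiLocalAtTarget Q]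
    [Q.IsStableUnderComposition] (hι : ∀ {A B : Scheme.{u}} (i : A ⟶ B) [IsOpenImmersion i], Q i)
    {Z T : Scheme.{u}} (r : Z ⟶ T) {ι : Type*} (D : ι → T.Opens) (hD : ∀ z : Z, ∃ i, r.base z ∈ D i)
    (h : ∀ i, Q (r ∣_ D i)) : Q r := by
  let W : T.Opens := ⨆ i, D i
  have hW : r ⁻¹ᵁ W = ⊤ := eq_top_iff.2 fun z _ => Opens.mem_iSup.2 (hD z)
  have h2 : Q (r ∣_ W) := by
    refine IsZariskiLocalAtTarget.of_iSup_eq_top (P := Q) (fun i => W.ι ⁻¹ᵁ D i)
      (eq_top_iff.2 fun w _ => ?_) fun i => ?_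
    · obtain ⟨i, hi⟩ := Opens.mem_iSup.1 w.2
      exact Opens.mem_iSup.2 ⟨i, hi⟩
    · rw [MorphismProperty.arrow_mk_iso_iff (P := Q) (morphismRestrictRestrict r W (W.ι ⁻¹ᵁ D i)),
        MorphismProperty.arrow_mk_iso_iff (P := Q) (morphismRestrictEq r (show W.ι ''ᵁ W.ι ⁻¹ᵁ D i = D i by
          rw [Scheme.Hom.image_preimage_eq_opensRange_inf, Scheme.Opens.opensRange_ι, inf_eq_right]
          exact le_iSup D i))]
      exact h i
  have h3 : Q ((r ⁻¹ᵁ W).ι ≫ r) := by
    rw [← morphismRestrict_ι r W]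
    exact Q.comp_mem _ _ h2 (hι W.ι)
  have : IsIso (r ⁻¹ᵁ W).ι := by
    rw [hW]
    exact (Scheme.topIso Z).isIso_hom
  exact (MorphismProperty.cancel_left_of_respectsIso Q (r ⁻¹ᵁ W).ι r).1 h3

theorem isImmersion_of_cover_range {Z T : Scheme.{u}} (r : Z ⟶ T) {ι : Type*} (D : ι → T.Opens)
    (hD : ∀ z : Z, ∃ i, r.base z ∈ D i) (h : ∀ i, IsImmersion (r ∣_ D i)) : IsImmersion r :=
  of_cover_range @IsImmersion (fun i hi => inferInstance) r D hD h

theorem isOpenImmersion_of_cover_range {Z T : Scheme.{u}} (r : Z ⟶ T) {ι : Type*} (D : ι → T.Opens)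
    (hD : ∀ z : Z, ∃ i, r.base z ∈ D i) (h : ∀ i, IsOpenImmersion (r ∣_ D i)) : IsOpenImmersion r :=
  of_cover_range @IsOpenImmersion (fun i hi => hi) r D hD h

theorem bijective_appTop_iso {Z T : Scheme.{u}} (r : Z ⟶ T) [IsAffine Z] [IsAffine T]
    (h : Function.Bijective r.appTop.hom) : IsIso r := by
  have : IsIso r.appTop := (ConcreteCategory.isIso_iff_bijective _).2 h
  have h1 : r = Z.isoSpec.hom ≫ Spec.map r.appTop ≫ T.isoSpec.inv := by
    rw [← Category.assoc, Iso.eq_comp_inv, Scheme.isoSpec_hom_naturality]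
  rw [h1]
  infer_instance

variable {Z T : Scheme.{u}} (r : Z ⟶ T)

theorem bij_restrict_iff (D : T.Opens) :
    (Function.Surjective (r ∣_ D).appTop.hom ↔ Function.Surjective (r.app D).hom) ∧
      (Function.Injective (r ∣_ D).appTop.hom ↔ Function.Injective (r.app D).hom) := by
  have key : ∀ (E : T.Opens) (F : Z.Opens) (e : r ⁻¹ᵁ E = F) (_ : E = D),
      (Function.Surjective (r.app E ≫ Z.presheaf.map (eqToHom e.symm).op).hom ↔ Function.Surjective (r.app D).hom) ∧
      (Function.Injective (r.app E ≫ Z.presheaf.map (eqToHom e.symm).op).hom ↔ Function.Injective (r.app D).hom) := by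
    rintro E F rfl rfl
    simp
  rw [morphismRestrict_appTop]
  exact key _ _ (image_morphismRestrict_preimage r D ⊤).symm (by simp)

variable {X Y P PL : Scheme.{u}} {q : X ⟶ Y} {L : X.Modules} [L.IsQuasicoherent]
  {𝒮L : RelProj.QCGrAlg X} {jL : L ⟶ 𝒮L.toModule} (hjL : RelProj.IsGrSymAlg L 𝒮L jL)
  (hL : PicF.IsInvertible L)
  {pL : PL ⟶ X}
  {chartL : ∀ (U : X.Opens) (hU : IsAffineOpen U), (((pL ⁻¹ᵁ U : PL.Opens) : Scheme.{u}) ≅ Proj (𝒮L.deg U hU))}
  (hPL : RelProj.IsRelProj 𝒮L pL chartL)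
  {𝒜 : RelProj.QCGrAlg Y} {p : P ⟶ Y}
  {chart : ∀ (U : Y.Opens) (hU : IsAffineOpen U), (((p ⁻¹ᵁ U : P.Opens) : Scheme.{u}) ≅ Proj (𝒜.deg U hU))}
  (hP : RelProj.IsRelProj 𝒜 p chart)
  (u : RelProj.QGrHom q 𝒜 𝒮L)
  {r : ((RelProj.domQ u pL chartL : PL.Opens) : Scheme.{u}) ⟶ P}
  (hr : RelProj.IsProjQMapOn u p chart pL chartL (RelProj.domQ u pL chartL) r)
  {U : Y.Opens} {hU : IsAffineOpen U} {d : ℕ} (hd : 0 < d) {f : 𝒜.presheaf.obj (op U)}
  (hf : f ∈ 𝒜.deg U hU d)

include hjL hL hPL hP hr hd hf in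
theorem isAffineOpen_preimage_iff :
    IsAffineOpen (r ⁻¹ᵁ dp chart U hU f) ↔ IsAffineOpen (nvU u U d f) := by
  have := isOpenImmersion_π hjL hL hPL u
  rw [preimage_dp hjL hL hPL hP u hr hd hf, ← (π u pL chartL).isAffineOpen_iff_of_isOpenImmersion,
    Scheme.Hom.image_preimage_eq_opensRange_inf, inf_eq_right.2 fun x hx => nvU_le_range hjL hL hPL u hd hf hx]

include hjL hL hPL hP hr in
theorem bij_phi_iff :
    (Function.Surjective (r.app (dp chart U hU f)).hom ↔ Function.Surjective (phi hjL hL hPL hP u hr hd hf)) ∧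
      (Function.Injective (r.app (dp chart U hU f)).hom ↔ Function.Injective (phi hjL hL hPL hP u hr hd hf)) := by
  have hb := bijective_π_app hjL hL hPL u hd hf
  have hc := ConcreteCategory.bijective_of_isIso (coordF chart U hU hd f hf).hom
  have hm : Function.Bijective
      (((RelProj.domQ u pL chartL : PL.Opens) : Scheme.{u}).presheaf.map
        (homOfLE (preimage_dp hjL hL hPL hP u hr hd hf).ge).op).hom := by
    have : IsIso (homOfLE (preimage_dp hjL hL hPL hP u hr hd hf).ge) :=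
      ⟨homOfLE (preimage_dp hjL hL hPL hP u hr hd hf).le, Subsingleton.elim _ _, Subsingleton.elim _ _⟩
    exact ConcreteCategory.bijective_of_isIso _
  have e : ((π u pL chartL).app (nvU u U d f)).hom ∘ phi hjL hL hPL hP u hr hd hf =
      _ ∘ ((r.app (dp chart U hU f)).hom ∘ (coordF chart U hU hd f hf).hom.hom) :=
    funext fun x => (app_phi hjL hL hPL hP u hr hd hf x).trans (rfl :
      _ = (((RelProj.domQ u pL chartL : PL.Opens) : Scheme.{u}).presheaf.map
        (homOfLE (preimage_dp hjL hL hPL hP u hr hd hf).ge).op).hom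
          ((r.app (dp chart U hU f)).hom ((coordF chart U hU hd f hf).hom x)))
  constructor
  · constructor
    · intro h
      exact Function.Surjective.of_comp_left (e ▸ hm.2.comp (h.comp hc.2)) hb.1
    · intro h
      have h1 : Function.Surjective (_ ∘ ((r.app (dp chart U hU f)).hom ∘ (coordF chart U hU hd f hf).hom.hom)) :=
        e ▸ hb.2.comp h
      exact Function.Surjective.of_comp (Function.Surjective.of_comp_left h1 hm.1)
  · constructor
    · intro h
      exact Function.Injective.of_comp (e ▸ hm.1.comp (h.comp hc.1))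
    · intro h
      have h1 : Function.Injective (_ ∘ ((r.app (dp chart U hU f)).hom ∘ (coordF chart U hU hd f hf).hom.hom)) :=
        e ▸ hb.1.comp h
      exact (Function.Injective.of_comp h1).of_comp_right hc.2

include hjL hL hPL hP hr in
theorem isClosedImmersion_restrict (hN : IsAffineOpen (nvU u U d f))
    (hs : Function.Surjective (phi hjL hL hPL hP u hr hd hf)) :
    IsClosedImmersion (r ∣_ dp chart U hU f) := by
  have : IsAffine (dp chart U hU f : Scheme.{u}) := isAffineOpen_dp hd hf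
  have : IsAffine (r ⁻¹ᵁ dp chart U hU f : Scheme.{u}) :=
    (isAffineOpen_preimage_iff hjL hL hPL hP u hr hd hf).2 hN
  exact .of_surjective_of_isAffine _ ((bij_restrict_iff r _).1.2 ((bij_phi_iff hjL hL hPL hP u hr hd hf).1.2 hs))

include hjL hL hPL hP hr in
theorem isIso_restrict (hN : IsAffineOpen (nvU u U d f))
    (hs : Function.Bijective (phi hjL hL hPL hP u hr hd hf)) :
    IsIso (r ∣_ dp chart U hU f) := by
  have : IsAffine (dp chart U hU f : Scheme.{u}) := isAffineOpen_dp hd hf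
  have : IsAffine (r ⁻¹ᵁ dp chart U hU f : Scheme.{u}) :=
    (isAffineOpen_preimage_iff hjL hL hPL hP u hr hd hf).2 hN
  exact bijective_appTop_iso _ ⟨(bij_restrict_iff r _).2.2 ((bij_phi_iff hjL hL hPL hP u hr hd hf).2.2 hs.1),
    (bij_restrict_iff r _).1.2 ((bij_phi_iff hjL hL hPL hP u hr hd hf).1.2 hs.2)⟩

include hjL hL hPL hP hr hd hf in
theorem of_isClosedImmersion_restrict [IsClosedImmersion (r ∣_ dp chart U hU f)] :
    IsAffineOpen (nvU u U d f) ∧ Function.Surjective (phi hjL hL hPL hP u hr hd hf) := by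
  have : IsAffine (dp chart U hU f : Scheme.{u}) := isAffineOpen_dp hd hf
  obtain ⟨h1, h2⟩ := IsClosedImmersion.isAffine_surjective_of_isAffine (r ∣_ dp chart U hU f)
  exact ⟨(isAffineOpen_preimage_iff hjL hL hPL hP u hr hd hf).1 h1,
    (bij_phi_iff hjL hL hPL hP u hr hd hf).1.1 ((bij_restrict_iff r _).1.1 h2)⟩

include hjL hL hPL hP hr hd hf in
theorem injective_phi_of_isIso [IsIso (r ∣_ dp chart U hU f)] :
    Function.Injective (phi hjL hL hPL hP u hr hd hf) :=
  (bij_phi_iff hjL hL hPL hP u hr hd hf).2.1 ((bij_restrict_iff r _).2.1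
    (have := Scheme.Hom.isIso_app (r ∣_ dp chart U hU f) ⊤ fun w _ => ⟨(inv (r ∣_ dp chart U hU f)).base w, by
        change (inv (r ∣_ dp chart U hU f) ≫ (r ∣_ dp chart U hU f)).base w = w
        rw [IsIso.inv_hom_id]; rfl⟩
     (ConcreteCategory.bijective_of_isIso ((r ∣_ dp chart U hU f).app ⊤)).1))

include hjL hL hPL hP hr in
theorem exists_mem_nvU (z : ((RelProj.domQ u pL chartL : PL.Opens) : Scheme.{u})) {U : Y.Opens}
    (hU : IsAffineOpen U) (hz : q.base ((π u pL chartL).base z) ∈ U) :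
    ∃ (d : ℕ) (f : 𝒜.presheaf.obj (op U)), 0 < d ∧ f ∈ 𝒜.deg U hU d ∧
      (π u pL chartL).base z ∈ nvU u U d f := by
  have h1 : (r ≫ p).base z ∈ U := by
    rw [Groth.Ega2P2.projQMapOn_comp u hP hPL r hr]; exact hz
  obtain ⟨y, hy⟩ := (Groth.Ega2P2.projCharts hP).mem_range hU (x := r.base z) h1
  obtain ⟨s, x, hx⟩ : ∃ (s : Σ i : PNat, 𝒜.deg U hU i) (x : _),
      (Proj.awayι (𝒜.deg U hU) (s.2 : 𝒜.presheaf.obj (op U)) s.2.2 s.1.pos).base x = y :=
    (Proj.affineOpenCover (𝒜.deg U hU)).openCover.exists_eq y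
  obtain ⟨i, f, hf⟩ := s
  refine ⟨i, f, i.pos, hf, (mem_dp_iff hjL hL hPL hP u hr i.pos hf z).1 ⟨y, ?_, hy⟩⟩
  exact (Proj.opensRange_awayι (𝒜.deg U hU) f hf i.pos).le ⟨x, hx⟩

include hjL hL hPL in
theorem mem_domQ_of_forall (h : ∀ x : X, ∃ (U : Y.Opens) (hU : IsAffineOpen U) (d : ℕ)
      (f : 𝒜.presheaf.obj (op U)), 0 < d ∧ f ∈ 𝒜.deg U hU d ∧ x ∈ nvU u U d f) :
    RelProj.domQ u pL chartL = ⊤ := by
  have := isIso_p hjL hPL hL
  refine eq_top_iff.2 fun z _ => ?_
  obtain ⟨U, hU, d, f, hd, hf, hx⟩ := h (pL.base z)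
  obtain ⟨w, hw⟩ := nvU_le_range hjL hL hPL u hd hf hx
  rw [← pL.isOpenEmbedding.injective hw]
  exact w.2

include hjL hL hPL hP hr in
theorem exists_nvU_of_top (htop : RelProj.domQ u pL chartL = ⊤) (x : X) {U : Y.Opens}
    (hU : IsAffineOpen U) (hx : q.base x ∈ U) :
    ∃ (d : ℕ) (f : 𝒜.presheaf.obj (op U)), 0 < d ∧ f ∈ 𝒜.deg U hU d ∧ x ∈ nvU u U d f := by
  have := isIso_p hjL hPL hL
  have hz : pL.base ((inv pL).base x) = x := by
    change (inv pL ≫ pL).base x = x
    rw [IsIso.inv_hom_id]; rfl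
  have := exists_mem_nvU hjL hL hPL hP u hr ⟨(inv pL).base x, htop ▸ trivial⟩ hU
    (show q.base (pL.base ((inv pL).base x)) ∈ U by rw [hz]; exact hx)
  obtain ⟨d, f, hd, hf, h⟩ := this
  exact ⟨d, f, hd, hf, hz ▸ h⟩

end Groth.RLpsi
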