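import Groth.Agent.RLpsi.Ample

/-!
# Sections over compact opens and the opens where a section does not vanish
-/

universe u

open CategoryTheory CategoryTheory.Limits AlgebraicGeometry Opposite TopologicalSpace
open scoped HomogeneousIdeal

set_option backward.isDefEq.respectTransparency.types false

noncomputable section

namespace Groth.RLpsi

open Groth.PicAux Groth.RelTw Groth.PropsBasic.Ample

variable {X : Scheme.{u}} {L : X.Modules} [L.IsQuasicoherent]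
  {𝒮L : RelProj.QCGrAlg X} {jL : L ⟶ 𝒮L.toModule} (hjL : RelProj.IsGrSymAlg L 𝒮L jL)
  (hL : PicF.IsInvertible L)
  {W : X.Opens} {d : ℕ} {f : 𝒮L.presheaf.obj (op W)}
  (hf : ∀ (V : X.Opens) (hV : IsAffineOpen V) (h : V ≤ W), rs 𝒮L h f ∈ 𝒮L.deg V hV d)

include hL in
theorem exists_triv_cover {O : X.Opens} (hO : IsCompact (O : Set X)) :
    ∃ (ι : Type u) (_ : Fintype ι) (V : ι → X.Opens) (g : ∀ i, Γ(L, V i)),
      (∀ i, IsAffineOpen (V i)) ∧ (∀ i, V i ≤ O) ∧ O ≤ ⨆ i, V i ∧ ∀ i, Gen L (V i) (g i) := by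
  classical
  choose V hV g hxV hVO hg using fun x : O => exists_triv (L := L) hL x.2
  obtain ⟨T, hT⟩ := hO.elim_finite_subcover (fun x => (V x : Set X)) (fun x => (V x).isOpen)
    (fun x hx => Set.mem_iUnion.2 ⟨⟨x, hx⟩, hxV _⟩)
  refine ⟨T, inferInstance, fun x => V x, fun x => g x, fun x => hV x, fun x => hVO x, fun x hx => ?_, fun x => hg x⟩
  obtain ⟨y, hy, hxy⟩ := Set.mem_iUnion₂.1 (hT hx)
  exact Opens.mem_iSup.2 ⟨⟨y, hy⟩, hxy⟩

include hjL hf in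
theorem nv_inter_eq {V : X.Opens} (hV : IsAffineOpen V) {g : Γ(L, V)} (hg : Gen L V g) (hVW : V ≤ W)
    {c : Γ(X, V)} (hc : rs 𝒮L hVW f = sc 𝒮L V c * jel 𝒮L jL V g ^ d) :
    nv 𝒮L W f d ⊓ V = X.basicOpen c :=
  Opens.ext (Set.ext fun x => ⟨fun hx => (mem_nv_iff hjL hV hg hVW hc hx.2).1 hx.1,
    fun hx => ⟨(mem_nv_iff hjL hV hg hVW hc (X.basicOpen_le c hx)).2 hx, X.basicOpen_le c hx⟩⟩)

include hjL hL hf in
theorem isCompact_nv_inter {O : X.Opens} (hO : IsCompact (O : Set X)) (hOW : O ≤ W) :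
    IsCompact ((nv 𝒮L W f d ⊓ O : X.Opens) : Set X) := by
  obtain ⟨ι, _, V, g, hV, hVO, hcov, hg⟩ := exists_triv_cover hL hO
  choose c hc using fun i => exists_coeff hjL (hV i) (hg i) (hf (V i) (hV i) ((hVO i).trans hOW))
  have e : ((nv 𝒮L W f d ⊓ O : X.Opens) : Set X) = ⋃ i, (X.basicOpen (c i) : Set X) := by
    ext x
    simp only [Set.mem_iUnion]
    constructor
    · rintro ⟨hxN, hxO⟩
      obtain ⟨i, hi⟩ := Opens.mem_iSup.1 (hcov hxO)
      exact ⟨i, (mem_nv_iff hjL (hV i) (hg i) _ (hc i) hi).1 hxN⟩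
    · rintro ⟨i, hi⟩
      have hxV := X.basicOpen_le (c i) hi
      exact ⟨(mem_nv_iff hjL (hV i) (hg i) _ (hc i) hxV).2 hi, hVO i hxV⟩
  rw [e]
  exact isCompact_iUnion fun i => ((hV i).basicOpen (c i)).isCompact

include hjL hL hf in
/-- A section vanishing where `f` does not is killed by a power of `f`. -/
theorem exists_pow_mul_eq_zero {O : X.Opens} (hO : IsCompact (O : Set X)) (hOW : O ≤ W) {e : ℕ}
    {y : 𝒮L.presheaf.obj (op O)}
    (hy : ∀ (V : X.Opens) (hV : IsAffineOpen V) (h : V ≤ O), rs 𝒮L h y ∈ 𝒮L.deg V hV e)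
    (h0 : rs 𝒮L (inf_le_right : nv 𝒮L W f d ⊓ O ≤ O) y = 0) :
    ∃ m, rs 𝒮L hOW f ^ m * y = 0 := by
  obtain ⟨ι, _, V, g, hV, hVO, hcov, hg⟩ := exists_triv_cover hL hO
  choose c hc using fun i => exists_coeff hjL (hV i) (hg i) (hf (V i) (hV i) ((hVO i).trans hOW))
  choose b hb using fun i => exists_coeff hjL (hV i) (hg i) (hy (V i) (hV i) (hVO i))
  have hm : ∀ i, ∃ m, c i ^ m * b i = 0 := fun i => by
    refine exists_pow_mul_eq_zero_of_res_basicOpen_eq_zero_of_isAffineOpen X (hV i) (b i) (c i) ?_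
    have hle : X.basicOpen (c i) ≤ V i := X.basicOpen_le _
    have hleN : X.basicOpen (c i) ≤ nv 𝒮L W f d ⊓ O :=
      le_inf (((nv_inter_eq hjL hf (hV i) (hg i) _ (hc i)).ge).trans inf_le_left) (hle.trans (hVO i))
    change resX X hle (b i) = 0
    refine coeff_inj hjL ((hV i).basicOpen (c i)) ((hg i).res hle) (n := e) ?_
    rw [← rs_sc_mul_pow hle, ← hb i, rs_rs, map_zero, zero_mul,
      show rs 𝒮L (hle.trans (hVO i)) y = rs 𝒮L hleN (rs 𝒮L inf_le_right y) from (rs_rs _ _ _).symm, h0, map_zero]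
  choose m hm using hm
  refine ⟨∑ i, m i, eq_of_locally V hVO hcov fun i => ?_⟩
  obtain ⟨k, hk⟩ : ∃ k, ∑ j, m j = k + m i :=
    ⟨_, (Nat.sub_add_cancel (Finset.single_le_sum (f := m) (fun _ _ => Nat.zero_le _) (Finset.mem_univ i))).symm⟩
  rw [map_mul, map_pow, rs_rs, map_zero, hc i, hb i, hk, mul_pow, ← map_pow, pow_add, map_mul]
  have hz : sc 𝒮L (V i) (c i ^ m i) * sc 𝒮L (V i) (b i) = 0 := by rw [← map_mul, hm i, map_zero]
  calc _ = (sc 𝒮L (V i) (c i ^ m i) * sc 𝒮L (V i) (b i)) *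
      (sc 𝒮L (V i) (c i ^ k) * (jel 𝒮L jL (V i) (g i) ^ d) ^ (k + m i) * jel 𝒮L jL (V i) (g i) ^ e) := by ring
    _ = 0 := by rw [hz, zero_mul]

include hjL hL hf in
/-- A function on the locus extends after multiplication by a power of `f`. -/
theorem exists_pow_mul_extend (hW : IsCompact (W : Set X)) (hWs : IsQuasiSeparated (W : Set X))
    (t : Γ(X, nv 𝒮L W f d)) :
    ∃ (k : ℕ) (y : 𝒮L.presheaf.obj (op W)),
      (∀ (V : X.Opens) (hV : IsAffineOpen V) (h : V ≤ W), ∀ {g : Γ(L, V)}, Gen L V g →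
        rs 𝒮L h y ∈ 𝒮L.deg V hV (d * k)) ∧
      rs 𝒮L (nv_le f d) y = sc 𝒮L (nv 𝒮L W f d) t * rs 𝒮L (nv_le f d) f ^ k := by
  classical
  obtain ⟨ι, _, V, g, hV, hVW, hcov, hg⟩ := exists_triv_cover hL hW
  choose c hc using fun i => exists_coeff hjL (hV i) (hg i) (hf (V i) (hV i) (hVW i))
  have hD : ∀ i, X.basicOpen (c i) ≤ (nv 𝒮L W f d) := fun i =>
    (nv_inter_eq hjL hf (hV i) (hg i) _ (hc i)).ge.trans inf_le_left
  choose n b hb using fun i => exists_eq_pow_mul_of_isAffineOpen X (V i) (hV i) (c i) (resX X (hD i) t)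
  let n₀ := ∑ i, n i
  have hn : ∀ i, n i ≤ n₀ := fun i => Finset.single_le_sum (f := n) (fun _ _ => Nat.zero_le _) (Finset.mem_univ i)
  obtain ⟨y, hy⟩ : ∃ y : ∀ i, 𝒮L.presheaf.obj (op (V i)), ∀ i,
      y i = sc 𝒮L (V i) (c i ^ (n₀ - n i) * b i) * jel 𝒮L jL (V i) (g i) ^ (d * n₀) := ⟨_, fun i => rfl⟩
  have hyt : ∀ i, rs 𝒮L (inf_le_right : (nv 𝒮L W f d) ⊓ V i ≤ V i) (y i) =
      sc 𝒮L ((nv 𝒮L W f d) ⊓ V i) (resX X inf_le_left t) * rs 𝒮L (inf_le_right.trans (hVW i)) f ^ n₀ := by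
    intro i
    have hle : X.basicOpen (c i) ≤ V i := X.basicOpen_le _
    have key : ∀ (O : X.Opens) (_ : O = X.basicOpen (c i)) (h1 : O ≤ V i) (h2 : O ≤ (nv 𝒮L W f d)),
        rs 𝒮L h1 (y i) = sc 𝒮L O (resX X h2 t) * rs 𝒮L (h1.trans (hVW i)) f ^ n₀ := by
      rintro O rfl h1 h2
      have hbi : resX X h1 (b i) = resX X h1 (c i) ^ n i * resX X (hD i) t := hb i
      rw [hy i, ← rs_rs (hVW i) h1, hc i, rs_sc_mul_pow, rs_sc_mul_pow, mul_pow, ← map_pow, ← pow_mul, ← mul_assoc,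
        ← map_mul, map_mul (resX X h1), map_pow (resX X h1), hbi]
      congr 2
      rw [← mul_assoc, ← pow_add, Nat.sub_add_cancel (hn i)]
      ring
    exact key _ (nv_inter_eq hjL hf (hV i) (hg i) _ (hc i)) _ _
  have hdiff : ∀ i j, ∃ m, rs 𝒮L ((inf_le_left : V i ⊓ V j ≤ V i).trans (hVW i)) f ^ m *
      (rs 𝒮L (inf_le_left : V i ⊓ V j ≤ V i) (y i) - rs 𝒮L (inf_le_right : V i ⊓ V j ≤ V j) (y j)) = 0 := by
    intro i j
    refine exists_pow_mul_eq_zero hjL hL hf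
      (hWs (V i) (V j) (fun x hx => hVW i hx) (V i).isOpen (hV i).isCompact (fun x hx => hVW j hx)
        (V j).isOpen (hV j).isCompact) _ (e := d * n₀) (fun T hT hTle => ?_) ?_
    · rw [map_sub, rs_rs, rs_rs, hy i, hy j]
      refine sub_mem ?_ ?_
      · exact (rs_sc_mul_pow (hTle.trans inf_le_left) _ _).symm ▸ sc_mul_pow_mem hjL hT _ _
      · exact (rs_sc_mul_pow (hTle.trans inf_le_right) _ _).symm ▸ sc_mul_pow_mem hjL hT _ _
    · rw [map_sub, rs_rs, rs_rs, sub_eq_zero]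
      have hi := congrArg (rs 𝒮L (inf_le_inf_left (nv 𝒮L W f d) inf_le_left : (nv 𝒮L W f d) ⊓ (V i ⊓ V j) ≤ (nv 𝒮L W f d) ⊓ V i)) (hyt i)
      have hj := congrArg (rs 𝒮L (inf_le_inf_left (nv 𝒮L W f d) inf_le_right : (nv 𝒮L W f d) ⊓ (V i ⊓ V j) ≤ (nv 𝒮L W f d) ⊓ V j)) (hyt j)
      rw [map_mul, map_pow, rs_rs, rs_rs, rs_sc, resX_resX] at hi hj
      exact hi.trans hj.symm
  choose m hm using hdiff
  let m₀ := ∑ p : ι × ι, m p.1 p.2
  obtain ⟨Y, hY, -⟩ := TopCat.Sheaf.existsUnique_gluing' (⟨𝒮L.presheaf, 𝒮L.isSheaf⟩ : TopCat.Sheaf CommRingCat.{u} X)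
    V W (fun i => homOfLE (hVW i)) hcov (fun i => rs 𝒮L (hVW i) f ^ m₀ * y i) (fun i j => by
      change rs 𝒮L (inf_le_left : V i ⊓ V j ≤ V i) _ = rs 𝒮L (inf_le_right : V i ⊓ V j ≤ V j) _
      rw [map_mul, map_mul, map_pow, map_pow, rs_rs, rs_rs, ← sub_eq_zero, ← mul_sub]
      obtain ⟨k, hk⟩ : ∃ k, m₀ = k + m i j :=
        ⟨_, (Nat.sub_add_cancel (Finset.single_le_sum (f := fun p : ι × ι => m p.1 p.2) (fun _ _ => Nat.zero_le _)
          (Finset.mem_univ (i, j)))).symm⟩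
      rw [hk, pow_add, mul_assoc, hm i j, mul_zero])
  replace hY : ∀ i, rs 𝒮L (hVW i) Y = rs 𝒮L (hVW i) f ^ m₀ * y i := hY
  refine ⟨m₀ + n₀, Y, fun T hT hTW g' hg' => ?_, ?_⟩
  · -- degrees
    suffices h : rs 𝒮L hTW Y = (DirectSum.decompose (𝒮L.deg T hT) (rs 𝒮L hTW Y) (d * (m₀ + n₀)) : 𝒮L.presheaf.obj (op T)) from
      h ▸ SetLike.coe_mem _
    choose S hS hzS hSle using fun z : T =>
      exists_isAffineOpen_mem_and_subset (x := z.1) (U := ⨆ i, V i ⊓ T) (by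
        obtain ⟨i, hi⟩ := Opens.mem_iSup.1 (hcov (hTW z.2))
        exact Opens.mem_iSup.2 ⟨i, hi, z.2⟩)
    choose i hzi hSi using fun z : T => show ∃ i, z.1 ∈ V i ∧ True from by
      obtain ⟨i, hi⟩ := Opens.mem_iSup.1 (hcov (hTW z.2))
      exact ⟨i, hi, trivial⟩
    choose R hR hzR hRle using fun z : T =>
      exists_isAffineOpen_mem_and_subset (x := z.1) (U := V (i z) ⊓ T) ⟨hzi z, z.2⟩
    have hRT : ∀ z, R z ≤ T := fun z w hw => (hRle z hw).2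
    have hRV : ∀ z, R z ≤ V (i z) := fun z w hw => (hRle z hw).1
    refine eq_of_locally R hRT (fun w hw => Opens.mem_iSup.2 ⟨⟨w, hw⟩, hzR _⟩) fun z => ?_
    have hmem : rs 𝒮L (hRT z) (rs 𝒮L hTW Y) ∈ 𝒮L.deg (R z) (hR z) (d * (m₀ + n₀)) := by
      rw [rs_rs, ← rs_rs (hVW (i z)) (hRV z), hY, hy (i z), map_mul, map_pow, rs_sc_mul_pow, rs_rs]
      have h1 := SetLike.pow_mem_graded m₀ (hf _ (hR z) ((hRV z).trans (hVW _)))
      have h2 := SetLike.mul_mem_graded h1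
        (sc_mul_pow_mem hjL (hR z) (g := res L (hRV z) (g (i z))) (resX X (hRV z) (c (i z) ^ (n₀ - n (i z)) * b (i z))) (d * n₀))
      rwa [smul_eq_mul, mul_comm m₀ d, ← mul_add] at h2
    refine ((GradedRingHom.map_directSumDecompose (𝒜 := 𝒮L.deg T hT) (ℬ := 𝒮L.deg (R z) (hR z))
      (𝒮L.res hT (hR z) (hRT z)) (x := rs 𝒮L hTW Y) (i := d * (m₀ + n₀))).trans
      (DirectSum.decompose_of_mem_same _ hmem)).symm
  · refine eq_of_locally (fun i => (nv 𝒮L W f d) ⊓ V i) (fun i => inf_le_left) (fun x hx => ?_) fun i => ?_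
    · obtain ⟨i, hi⟩ := Opens.mem_iSup.1 (hcov (nv_le f d hx))
      exact Opens.mem_iSup.2 ⟨i, hx, hi⟩
    · rw [map_mul, map_pow, rs_rs, rs_rs, rs_sc, ← rs_rs (hVW i) inf_le_right, hY i, map_mul, map_pow, hyt i, rs_rs]
      rw [pow_add]
      ring

include hjL hL in
/-- A section of a power as an element of the algebra. -/
theorem exists_elt_of_powSection (W : X.Opens) {d : ℕ}
    (t : Γ(CohB1.tensorPow ((Scheme.Modules.pullback W.ι).obj L) d, ⊤)) :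
    ∃ y : 𝒮L.presheaf.obj (op W),
      (∀ (V : X.Opens) (hV : IsAffineOpen V) (h : V ≤ W), ∀ {g : Γ(L, V)}, Gen L V g →
        rs 𝒮L h y ∈ 𝒮L.deg V hV d) ∧
      gloc t = W.ι ⁻¹ᵁ nv 𝒮L W y d := by
  let M := (Scheme.Modules.pullback W.ι).obj L
  have happ : ∀ {T : X.Opens} (_ : T ≤ W), Function.Bijective (W.ι.app T).hom := fun {T} hT => by
    have := W.ι.isIso_app T (by rwa [Scheme.Opens.opensRange_ι])
    exact ConcreteCategory.bijective_of_isIso _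
  have hco : ∀ {T : X.Opens} (hT : T ≤ W) {g : Γ(L, T)} (hg : Gen L T g),
      ∃ c : Γ(X, T), res _ (le_top : W.ι ⁻¹ᵁ T ≤ ⊤) t = (W.ι.app T).hom c • powSec (pullSec W.ι L g) d := by
    intro T hT g hg
    obtain ⟨r, hr⟩ := ((hg.pull W.ι).pow d).exists_coeff le_rfl (res (CohB1.tensorPow M d) (le_top : W.ι ⁻¹ᵁ T ≤ ⊤) t)
    rw [PicAux.res_self] at hr
    obtain ⟨c, hc⟩ := (happ hT).2 r
    exact ⟨c, by rw [hc]; exact hr⟩
  have huniq : ∀ {T : X.Opens} (hT : T ≤ W) {g : Γ(L, T)} (hg : Gen L T g) {c c' : Γ(X, T)},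
      (W.ι.app T).hom c • powSec (pullSec W.ι L g) d = (W.ι.app T).hom c' • powSec (pullSec W.ι L g) d → c = c' := by
    intro T hT g hg c c' h
    exact (happ hT).1 (((hg.pull W.ι).pow d).smul_inj le_rfl (by simpa only [PicAux.res_self] using h))
  have hnat : ∀ {A B : X.Opens} (h : B ≤ A) (G : Γ(X, A)),
      resX (W : Scheme.{u}) (W.ι.preimage_mono h) ((W.ι.app A).hom G) = (W.ι.app B).hom (resX X h G) := fun h G =>
    (congr(($(W.ι.naturality (homOfLE h).op)).hom G)).symm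
  have hres : ∀ {A B : X.Opens} (hB : B ≤ A) {g : Γ(L, A)} {c : Γ(X, A)},
      res _ (le_top : W.ι ⁻¹ᵁ A ≤ ⊤) t = (W.ι.app A).hom c • powSec (pullSec W.ι L g) d →
      res _ (le_top : W.ι ⁻¹ᵁ B ≤ ⊤) t = (W.ι.app B).hom (resX X hB c) • powSec (pullSec W.ι L (res L hB g)) d := by
    intro A B hB g c h
    have h1 := congrArg (res (CohB1.tensorPow M d) (W.ι.preimage_mono hB)) h
    rw [PicAux.res_res, PicAux.res_smul, res_powSec, res_pullSec (f := W.ι) (h := hB)] at h1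
    exact h1.trans (congrArg (· • _) (hnat hB c))
  choose V hV g hxV hVW hg using fun x : W => exists_triv (L := L) hL x.2
  choose c hc using fun x => hco (hVW x) (hg x)
  let y : ∀ x, 𝒮L.presheaf.obj (op (V x)) := fun x => sc 𝒮L (V x) (c x) * jel 𝒮L jL (V x) (g x) ^ d
  have hcompat : ∀ x {T : X.Opens} (hT : T ≤ V x) {g' : Γ(L, T)} (hg' : Gen L T g') {c' : Γ(X, T)},
      res _ (le_top : W.ι ⁻¹ᵁ T ≤ ⊤) t = (W.ι.app T).hom c' • powSec (pullSec W.ι L g') d →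
      rs 𝒮L hT (y x) = sc 𝒮L T c' * jel 𝒮L jL T g' ^ d := by
    intro x T hT g' hg' c' h'
    obtain ⟨a, ha⟩ := hg'.exists_coeff le_rfl (res L hT (g x))
    rw [PicAux.res_self] at ha
    have h1 := (hres hT (hc x)).symm.trans h'
    rw [ha, pullSec_smul, powSec_smul, ← mul_smul, ← map_pow, ← map_mul] at h1
    have h2 := huniq (hT.trans (hVW x)) hg' h1
    rw [rs_sc_mul_pow, ha, show jel 𝒮L jL T (a • g') = sc 𝒮L T a * jel 𝒮L jL T g' from jL.app_smul a g',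
      mul_pow, ← map_pow, ← mul_assoc, ← map_mul, h2]
  obtain ⟨Y, hY, -⟩ := TopCat.Sheaf.existsUnique_gluing' (⟨𝒮L.presheaf, 𝒮L.isSheaf⟩ : TopCat.Sheaf CommRingCat.{u} X)
    V W (fun x => homOfLE (hVW x)) (fun w hw => Opens.mem_iSup.2 ⟨⟨w, hw⟩, hxV ⟨w, hw⟩⟩) y (fun x z => by
      change rs 𝒮L (inf_le_left : V x ⊓ V z ≤ V x) (y x) = rs 𝒮L (inf_le_right : V x ⊓ V z ≤ V z) (y z)
      obtain ⟨c', hc'⟩ := hco ((inf_le_left : V x ⊓ V z ≤ V x).trans (hVW x)) ((hg x).res inf_le_left)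
      rw [hcompat x inf_le_left ((hg x).res inf_le_left) hc', hcompat z inf_le_right ((hg x).res inf_le_left) hc'])
  replace hY : ∀ x, rs 𝒮L (hVW x) Y = y x := hY
  have hYT : ∀ {T : X.Opens} (hT : T ≤ W) {g' : Γ(L, T)} (hg' : Gen L T g') {c' : Γ(X, T)},
      res _ (le_top : W.ι ⁻¹ᵁ T ≤ ⊤) t = (W.ι.app T).hom c' • powSec (pullSec W.ι L g') d →
      rs 𝒮L hT Y = sc 𝒮L T c' * jel 𝒮L jL T g' ^ d := by
    intro T hT g' hg' c' h'
    refine eq_of_locally (fun x => T ⊓ V x) (fun x => inf_le_left)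
      (fun w hw => Opens.mem_iSup.2 ⟨⟨w, hT hw⟩, hw, hxV ⟨w, hT hw⟩⟩) fun x => ?_
    rw [rs_rs, ← rs_rs (hVW x) inf_le_right, hY x,
      hcompat x inf_le_right (hg'.res (inf_le_left : T ⊓ V x ≤ T)) (hres inf_le_left h'), rs_sc_mul_pow]
  refine ⟨Y, fun T hT hTW g' hg' => ?_, ?_⟩
  · obtain ⟨c', hc'⟩ := hco hTW hg'
    exact (hYT hTW hg' hc').symm ▸ sc_mul_pow_mem hjL hT c' d
  · refine opens_ext_cover (U := fun x => W.ι ⁻¹ᵁ V x) (eq_top_iff.2 fun w _ => Opens.mem_iSup.2 ⟨w, hxV w⟩) fun x => ?_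
    rw [gloc_inf_eq_basicOpen (((hg x).pull W.ι).pow d) (hc x), ← Scheme.preimage_basicOpen]
    refine Opens.ext (Set.ext fun w => ⟨fun hw => ⟨(mem_nv_iff hjL (hV x) (hg x) (hVW x) (hY x) (X.basicOpen_le _ hw)).2 hw,
      X.basicOpen_le _ hw⟩, fun hw => (mem_nv_iff hjL (hV x) (hg x) (hVW x) (hY x) hw.2).1 hw.1⟩)

end Groth.RLpsi
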