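import Groth.Agent.RLpsi.Criteria
import Groth.Agent.Ega2Proj2.RelProjBasic

/-!
# `r_{L,ψ}` over an affine base, and small standard opens
-/

universe u

open CategoryTheory CategoryTheory.Limits AlgebraicGeometry Opposite TopologicalSpace
open scoped HomogeneousIdeal

set_option backward.isDefEq.respectTransparency.types false

noncomputable section

namespace Groth.RLpsi

open Groth.PicAux Groth.RelTw

section small

variable {S P : Scheme.{u}} {𝒮 : RelProj.QCGrAlg S} {p : P ⟶ S}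
  {chart : ∀ (U : S.Opens) (hU : IsAffineOpen U), (((p ⁻¹ᵁ U : P.Opens) : Scheme.{u}) ≅ Proj (𝒮.deg U hU))}
  (hP : RelProj.IsRelProj 𝒮 p chart)

include hP in
/-- Standard opens of positive degree form a basis over an affine open. -/
theorem exists_dp_le {U : S.Opens} (hU : IsAffineOpen U) {x : P} (hxU : p.base x ∈ U) {O : P.Opens}
    (hx : x ∈ O) :
    ∃ (d : ℕ) (f : 𝒮.presheaf.obj (op U)), 0 < d ∧ f ∈ 𝒮.deg U hU d ∧
      x ∈ dp chart U hU f ∧ dp chart U hU f ≤ O := by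
  classical
  obtain ⟨y, rfl⟩ : ∃ y : Proj (𝒮.deg U hU), (RelProj.emb p chart U hU).base y = x :=
    (Groth.Ega2P2.projCharts hP).mem_range hU hxU
  obtain ⟨_, ⟨g, rfl⟩, hyg, hgO⟩ := (ProjectiveSpectrum.isTopologicalBasis_basic_opens (𝒮.deg U hU)).exists_subset_of_mem_open
    (show y ∈ ((RelProj.emb p chart U hU ⁻¹ᵁ O : (Proj (𝒮.deg U hU)).Opens) : Set (Proj (𝒮.deg U hU))) from hx)
    (RelProj.emb p chart U hU ⁻¹ᵁ O).2
  obtain ⟨s, x₁, hx₁⟩ : ∃ (s : Σ i : PNat, 𝒮.deg U hU i) (x₁ : _),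
      (Proj.awayι (𝒮.deg U hU) (s.2 : 𝒮.presheaf.obj (op U)) s.2.2 s.1.pos).base x₁ = y :=
    (Proj.affineOpenCover (𝒮.deg U hU)).openCover.exists_eq y
  obtain ⟨i, e, he⟩ := s
  have hye : y ∈ Proj.basicOpen (𝒮.deg U hU) e := (Proj.opensRange_awayι (𝒮.deg U hU) e he i.pos).le ⟨x₁, hx₁⟩
  have hyg' : y ∈ Proj.basicOpen (𝒮.deg U hU) g := hyg
  obtain ⟨k, hk⟩ := Opens.mem_iSup.1 ((Proj.basicOpen_eq_iSup_proj (𝒮.deg U hU) g).le hyg')
  refine ⟨k + i, GradedRing.proj (𝒮.deg U hU) k g * e, by simp,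
    SetLike.mul_mem_graded (by rw [GradedRing.proj_apply]; exact SetLike.coe_mem _) he, ⟨y, ?_, rfl⟩, ?_⟩
  · rw [Proj.basicOpen_mul]
    exact ⟨hk, hye⟩
  · rintro _ ⟨w, hw, rfl⟩
    rw [Proj.basicOpen_mul] at hw
    refine hgO ?_
    exact (Proj.basicOpen_eq_iSup_proj (𝒮.deg U hU) g).ge (Opens.mem_iSup.2 ⟨k, hw.1⟩)

include hP in
theorem exists_dp_mem {U : S.Opens} (hU : IsAffineOpen U) {x : P} (hxU : p.base x ∈ U) :
    ∃ (d : ℕ) (f : 𝒮.presheaf.obj (op U)), 0 < d ∧ f ∈ 𝒮.deg U hU d ∧ x ∈ dp chart U hU f := by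
  obtain ⟨d, f, hd, hf, hx, -⟩ := exists_dp_le hP hU hxU (O := ⊤) (x := x) trivial
  exact ⟨d, f, hd, hf, hx⟩

end small

/-- An immersion is closed over an open in which its range is closed. -/
theorem isClosedImmersion_restrict_of_le {Z T : Scheme.{u}} (r : Z ⟶ T) [IsImmersion r] (D : T.Opens)
    (h : (D : Set T) ⊆ coborder (Set.range r)) : IsClosedImmersion (r ∣_ D) := by
  have : IsImmersion (r ∣_ D) := IsZariskiLocalAtTarget.restrict (P := @IsImmersion) ‹_› D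
  refine .of_isPreimmersion _ ?_
  have h1 : IsClosed ((Subtype.val : coborder (Set.range r) → T) ⁻¹' Set.range r) := isClosed_preimage_val_coborder
  have h2 : Set.range (r ∣_ D) = (Subtype.val : D → T) ⁻¹' Set.range r := by
    ext w
    constructor
    · rintro ⟨z, rfl⟩
      exact ⟨z.1, (congr($(morphismRestrict_ι r D) z)).symm⟩
    · rintro ⟨z, hz⟩
      have hzD : z ∈ r ⁻¹ᵁ D := show r z ∈ D from hz ▸ w.2
      refine ⟨⟨z, hzD⟩, Subtype.ext ?_⟩
      exact (congr($(morphismRestrict_ι r D) ⟨z, hzD⟩)).trans hz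
  rw [h2]
  exact h1.preimage (f := Set.inclusion h) (continuous_inclusion h)

theorem isIso_restrict_of_le {Z T : Scheme.{u}} (r : Z ⟶ T) [IsOpenImmersion r] (D : T.Opens)
    (h : D ≤ r.opensRange) : IsIso (r ∣_ D) := by
  have : IsOpenImmersion (r ∣_ D) := IsZariskiLocalAtTarget.restrict (P := @IsOpenImmersion) ‹_› D
  have : Surjective (r ∣_ D) := ⟨fun w => by
    obtain ⟨z, hz⟩ := h w.2
    have hzD : z ∈ r ⁻¹ᵁ D := show r z ∈ D from hz ▸ w.2
    refine ⟨⟨z, hzD⟩, Subtype.ext ?_⟩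
    exact (congr($(morphismRestrict_ι r D) ⟨z, hzD⟩)).trans hz⟩
  exact (isIso_iff_isOpenImmersion_and_surjective _).2 ⟨inferInstance, inferInstance⟩

variable {X Y P PL : Scheme.{u}} {q : X ⟶ Y} {L : X.Modules} [L.IsQuasicoherent]
  {𝒮L : RelProj.QCGrAlg X} {jL : L ⟶ 𝒮L.toModule} (hjL : RelProj.IsGrSymAlg L 𝒮L jL)
  (hL : PicF.IsInvertible L)
  {pL : PL ⟶ X}
  {chartL : ∀ (U : X.Opens) (hU : IsAffineOpen U), (((pL ⁻¹ᵁ U : PL.Opens) : Scheme.{u}) ≅ Proj (𝒮L.deg U hU))}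
  (hPL : RelProj.IsRelProj 𝒮L pL chartL)
  {𝒜 : RelProj.QCGrAlg Y} {p : P ⟶ Y}
  {chart : ∀ (U : Y.Opens) (hU : IsAffineOpen U), (((p ⁻¹ᵁ U : P.Opens) : Scheme.{u}) ≅ Proj (𝒜.deg U hU))}
  (hP : RelProj.IsRelProj 𝒜 p chart)
  (u : RelProj.QGrHom q 𝒜 𝒮L)

theorem le_pre_top (V : X.Opens) : V ≤ q ⁻¹ᵁ (⊤ : Y.Opens) := le_top.trans (Scheme.Hom.preimage_top q).ge

theorem nvU_top_eq (d : ℕ) (f : 𝒜.presheaf.obj (op ⊤)) :
    (⨆ V : {V : X.affineOpens //
        ((𝒮L.deg V.1 V.2 d : AddSubgroup (𝒮L.presheaf.obj (op (V.1 : X.Opens)))) : Set (𝒮L.presheaf.obj (op (V.1 : X.Opens)))) ⊆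
          (Ideal.span {(u.appLE ⊤ (V.1 : X.Opens) (le_top.trans (Scheme.Hom.preimage_top q).ge)).hom f} :
            Set (𝒮L.presheaf.obj (op (V.1 : X.Opens))))},
        (V.1.1 : X.Opens)) = nvU u ⊤ d f :=
  (nv_top_eq ((u.app ⊤).hom f) d le_pre_top).symm

variable {r : ((RelProj.domQ u pL chartL : PL.Opens) : Scheme.{u}) ⟶ P}
  (hr : RelProj.IsProjQMapOn u p chart pL chartL (RelProj.domQ u pL chartL) r)
  {U : Y.Opens} {hU : IsAffineOpen U} {d : ℕ} (hd : 0 < d) {f : 𝒜.presheaf.obj (op U)}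
  (hf : f ∈ 𝒜.deg U hU d)

include hjL hL hPL hP hr in
/-- The criterion for surjectivity. -/
theorem surjective_phi_iff :
    Function.Surjective (phi hjL hL hPL hP u hr hd hf) ↔
      ∀ t : Γ(X, nvU u U d f), ∃ (m : ℕ) (_ : 0 < m) (s : 𝒜.presheaf.obj (op U)) (_ : s ∈ 𝒜.deg U hU (m * d)),
        sc 𝒮L (nvU u U d f) t * rs 𝒮L (nv_le _ _) ((u.app U).hom f) ^ m = rs 𝒮L (nv_le _ _) ((u.app U).hom s) := by
  constructor
  · intro h t
    obtain ⟨q', rfl⟩ := h t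
    obtain ⟨k, x, hx, rfl⟩ := HomogeneousLocalization.Away.mk_surjective (𝒜.deg U hU) hf q'
    have hxf : x * f ∈ 𝒜.deg U hU ((k + 1) * d) := by
      have := SetLike.mul_mem_graded hx hf
      rwa [smul_eq_mul, ← Nat.succ_mul] at this
    refine ⟨k + 1, k.succ_pos, x * f, hxf, ?_⟩
    rw [pow_succ, ← mul_assoc, sc_phi_mul hjL hL hPL hP u hr hd hf k hx, map_mul, map_mul]
  · intro h t
    obtain ⟨m, -, s, hs, he⟩ := h t
    have hs' : s ∈ 𝒜.deg U hU (m • d) := by rwa [smul_eq_mul]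
    refine ⟨HomogeneousLocalization.Away.mk (𝒜.deg U hU) hf m s hs', ?_⟩
    exact eq_of_sc_mul_eq hjL hL (rs_mem_deg u hf) le_rfl m
      ((sc_phi_mul hjL hL hPL hP u hr hd hf m hs').trans he.symm)

include hjL hL hPL hP hr in
/-- The criterion for injectivity. -/
theorem injective_phi_iff :
    Function.Injective (phi hjL hL hPL hP u hr hd hf) ↔
      ∀ m : ℕ, 0 < m → ∀ s ∈ 𝒜.deg U hU (m * d), rs 𝒮L (nv_le _ _) ((u.app U).hom s) =
        (0 : 𝒮L.presheaf.obj (op (nvU u U d f))) → ∃ k : ℕ, 0 < k ∧ f ^ k * s = 0 := by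
  constructor
  · intro h m _ s hs h0
    have hs' : s ∈ 𝒜.deg U hU (m • d) := by rwa [smul_eq_mul]
    have h1 : HomogeneousLocalization.Away.mk (𝒜.deg U hU) hf m s hs' = 0 := by
      refine h ?_
      rw [map_zero]
      refine eq_of_sc_mul_eq hjL hL (rs_mem_deg u hf) le_rfl m ?_
      rw [sc_phi_mul hjL hL hPL hP u hr hd hf m hs', h0, map_zero, zero_mul]
    have h2 := congrArg HomogeneousLocalization.val h1
    rw [HomogeneousLocalization.Away.val_mk, HomogeneousLocalization.val_zero,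
      ← Localization.mk_zero 1, Localization.mk_eq_mk_iff, Localization.r_iff_exists] at h2
    obtain ⟨⟨_, n, rfl⟩, hn⟩ := h2
    refine ⟨n + 1, n.succ_pos, ?_⟩
    simp only [OneMemClass.coe_one, one_mul, mul_zero] at hn
    rw [pow_succ', mul_assoc, hn, mul_zero]
  · intro h
    rw [injective_iff_map_eq_zero]
    intro q' hq'
    obtain ⟨k, x, hx, rfl⟩ := HomogeneousLocalization.Away.mk_surjective (𝒜.deg U hU) hf q'
    have hxf : x * f ∈ 𝒜.deg U hU ((k + 1) * d) := by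
      have := SetLike.mul_mem_graded hx hf
      rwa [smul_eq_mul, ← Nat.succ_mul] at this
    have h1 := sc_phi_mul hjL hL hPL hP u hr hd hf k hx
    rw [hq', map_zero, zero_mul] at h1
    obtain ⟨n, -, hn⟩ := h (k + 1) k.succ_pos _ hxf (by rw [map_mul, map_mul, ← h1, zero_mul])
    refine HomogeneousLocalization.val_injective _ ?_
    rw [HomogeneousLocalization.Away.val_mk, HomogeneousLocalization.val_zero,
      ← Localization.mk_zero 1, Localization.mk_eq_mk_iff, Localization.r_iff_exists]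
    refine ⟨⟨f ^ (n + 1), n + 1, rfl⟩, ?_⟩
    simp only [OneMemClass.coe_one, one_mul, mul_zero]
    rw [pow_succ, mul_assoc, mul_comm f x, hn]

end Groth.RLpsi
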