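import Groth.Agent.RLpsi.InvLoc

/-!
# The morphism `r_{L,ψ}` on the opens where a section does not vanish
-/

universe u

open CategoryTheory CategoryTheory.Limits AlgebraicGeometry Opposite TopologicalSpace
open scoped HomogeneousIdeal

set_option backward.isDefEq.respectTransparency.types false

noncomputable section

namespace Groth.RLpsi

open Groth.PicAux Groth.RelTw

section coord

variable {S P : Scheme.{u}} {𝒮 : RelProj.QCGrAlg S} {p : P ⟶ S}

/-- The standard open `D₊(f)` of a relative `Proj`. -/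
abbrev dp (chart : ∀ (U : S.Opens) (hU : IsAffineOpen U), (((p ⁻¹ᵁ U : P.Opens) : Scheme.{u}) ≅ Proj (𝒮.deg U hU)))
    (U : S.Opens) (hU : IsAffineOpen U) (f : 𝒮.presheaf.obj (op U)) : P.Opens :=
  RelProj.emb p chart U hU ''ᵁ Proj.basicOpen (𝒮.deg U hU) f

variable {chart : ∀ (U : S.Opens) (hU : IsAffineOpen U), (((p ⁻¹ᵁ U : P.Opens) : Scheme.{u}) ≅ Proj (𝒮.deg U hU))}

variable (chart) in
/-- The functions on `D₊(f)` as degree zero fractions. -/
def coordF (U : S.Opens) (hU : IsAffineOpen U) {d : ℕ} (hd : 0 < d) (f : 𝒮.presheaf.obj (op U))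
    (hf : f ∈ 𝒮.deg U hU d) :
    CommRingCat.of (HomogeneousLocalization.Away (𝒮.deg U hU) f) ≅ Γ(P, dp chart U hU f) :=
  Proj.basicOpenIsoAway (𝒮.deg U hU) f hf hd ≪≫
    ((RelProj.emb p chart U hU).appIso (Proj.basicOpen (𝒮.deg U hU) f)).symm

variable {U : S.Opens} {hU : IsAffineOpen U} {d : ℕ} (hd : 0 < d) {f : 𝒮.presheaf.obj (op U)}
  (hf : f ∈ 𝒮.deg U hU d)

theorem isAffineOpen_dp (hd : 0 < d) (hf : f ∈ 𝒮.deg U hU d) : IsAffineOpen (dp chart U hU f) :=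
  (Proj.isAffineOpen_basicOpen (𝒮.deg U hU) f hf hd).image_of_isOpenImmersion _

theorem le_awayι_emb :
    ⊤ ≤ (Proj.awayι (𝒮.deg U hU) f hf hd ≫ RelProj.emb p chart U hU) ⁻¹ᵁ dp chart U hU f := fun w _ =>
  ⟨(Proj.awayι (𝒮.deg U hU) f hf hd).base w,
    (Proj.opensRange_awayι (𝒮.deg U hU) f hf hd).le ⟨w, rfl⟩, rfl⟩

theorem awayι_emb_appLE_coordF (c : HomogeneousLocalization.Away (𝒮.deg U hU) f) :
    (Proj.awayι (𝒮.deg U hU) f hf hd ≫ RelProj.emb p chart U hU).appLE (dp chart U hU f) ⊤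
        (le_awayι_emb hd hf) ((coordF chart U hU hd f hf).hom c) =
      (Scheme.ΓSpecIso _).inv c := by
  have h1 : ⊤ ≤ Proj.awayι (𝒮.deg U hU) f hf hd ⁻¹ᵁ Proj.basicOpen (𝒮.deg U hU) f := fun w _ =>
    (Proj.opensRange_awayι (𝒮.deg U hU) f hf hd).le ⟨w, rfl⟩
  have h2 : Proj.basicOpen (𝒮.deg U hU) f ≤ RelProj.emb p chart U hU ⁻¹ᵁ dp chart U hU f :=
    fun w hw => ⟨w, hw, rfl⟩
  rw [← Scheme.Hom.appLE_comp_appLE _ _ (dp chart U hU f) (Proj.basicOpen (𝒮.deg U hU) f) ⊤ h2 h1]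
  refine Eq.trans ?_ (congr(($(Groth.RelVA.awayι_appLE (𝒮.deg U hU) f hf hd h1)).hom c))
  rw [CommRingCat.comp_apply, CommRingCat.comp_apply]
  refine congrArg _ ?_
  exact congr(($((RelProj.emb p chart U hU).appIso_inv_appLE
    (U := Proj.basicOpen (𝒮.deg U hU) f) (V := Proj.basicOpen (𝒮.deg U hU) f) h2)).hom
      ((Proj.basicOpenIsoAway (𝒮.deg U hU) f hf hd).hom c)).trans (by simp)

end coord

variable {X Y P PL : Scheme.{u}} {q : X ⟶ Y} {L : X.Modules} [L.IsQuasicoherent]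
  {𝒮L : RelProj.QCGrAlg X} {jL : L ⟶ 𝒮L.toModule} (hjL : RelProj.IsGrSymAlg L 𝒮L jL)
  (hL : PicF.IsInvertible L)
  {pL : PL ⟶ X}
  {chartL : ∀ (U : X.Opens) (hU : IsAffineOpen U), (((pL ⁻¹ᵁ U : PL.Opens) : Scheme.{u}) ≅ Proj (𝒮L.deg U hU))}
  (hPL : RelProj.IsRelProj 𝒮L pL chartL)
  {𝒜 : RelProj.QCGrAlg Y} {p : P ⟶ Y}
  {chart : ∀ (U : Y.Opens) (hU : IsAffineOpen U), (((p ⁻¹ᵁ U : P.Opens) : Scheme.{u}) ≅ Proj (𝒜.deg U hU))}
  (hP : RelProj.IsRelProj 𝒜 p chart)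
  (u : RelProj.QGrHom q 𝒜 𝒮L)
  {r : ((RelProj.domQ u pL chartL : PL.Opens) : Scheme.{u}) ⟶ P}
  (hr : RelProj.IsProjQMapOn u p chart pL chartL (RelProj.domQ u pL chartL) r)

/-- The open where `u f` does not vanish. -/
abbrev nvU (U : Y.Opens) (d : ℕ) (f : 𝒜.presheaf.obj (op U)) : X.Opens :=
  nv 𝒮L (q ⁻¹ᵁ U) ((u.app U).hom f) d

/-- `G(u) ⟶ X`. -/
abbrev π (u : RelProj.QGrHom q 𝒜 𝒮L) (pL : PL ⟶ X)
    (chartL : ∀ (U : X.Opens) (hU : IsAffineOpen U), (((pL ⁻¹ᵁ U : PL.Opens) : Scheme.{u}) ≅ Proj (𝒮L.deg U hU))) :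
    ((RelProj.domQ u pL chartL : PL.Opens) : Scheme.{u}) ⟶ X :=
  (RelProj.domQ u pL chartL).ι ≫ pL

variable {U : Y.Opens} {hU : IsAffineOpen U} {d : ℕ} (hd : 0 < d) {f : 𝒜.presheaf.obj (op U)}
  (hf : f ∈ 𝒜.deg U hU d)

include hf in
theorem rs_mem_deg (V : X.Opens) (hV : IsAffineOpen V) (h : V ≤ q ⁻¹ᵁ U) :
    rs 𝒮L h ((u.app U).hom f) ∈ 𝒮L.deg V hV d :=
  u.map_mem U hU V hV h hf

include hjL hL hPL in
theorem isOpenImmersion_π : IsOpenImmersion (π u pL chartL) := by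
  have := isIso_p hjL hPL hL
  infer_instance

include hjL hL hPL hP hr hd hf in
theorem mem_dp_iff (z : ((RelProj.domQ u pL chartL : PL.Opens) : Scheme.{u})) :
    r.base z ∈ dp chart U hU f ↔ (π u pL chartL).base z ∈ nvU u U d f := by
  by_cases hx : (π u pL chartL).base z ∈ q ⁻¹ᵁ U
  · obtain ⟨V, hV, g, hxV, hVU, hg⟩ := exists_triv (L := L) hL hx
    obtain ⟨y, hy⟩ := (Groth.Ega2P2.projCharts hPL).mem_range hV
      (show pL.base ((RelProj.domQ u pL chartL).ι.base z) ∈ V from hxV)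
    refine (Groth.Ega2P2.mem_preimage_basicOpen_iff u hPL r hr hU hV hVU hd f hf z y hy.symm).trans ?_
    obtain ⟨c, hc⟩ := exists_coeff hjL hV hg (rs_mem_deg u hf V hV hVU)
    rw [show u.gradedAt U hU V hV hVU f = rs 𝒮L hVU ((u.app U).hom f) from rfl, hc,
      mem_basicOpen_coeff_iff hjL hV hg hPL hd c y, mem_nv_iff hjL hV hg hVU hc hxV]
    exact iff_of_eq (congrArg (fun w => pL.base w ∈ X.basicOpen c) hy)
  · refine iff_of_false (fun h => hx ?_) fun h => hx (nv_le _ _ h)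
    have h1 : p.base (r.base z) ∈ U := RelTw.image_le (chart := chart) U hU _ h
    have h2 : (r ≫ p).base z ∈ U := h1
    rw [Groth.Ega2P2.projQMapOn_comp u hP hPL r hr] at h2
    exact h2

include hjL hL hPL hP hr hd hf in
theorem preimage_dp : r ⁻¹ᵁ dp chart U hU f = π u pL chartL ⁻¹ᵁ nvU u U d f :=
  Opens.ext (Set.ext fun z => mem_dp_iff hjL hL hPL hP u hr hd hf z)

include hjL hL hPL hd hf in
theorem nvU_le_range {x : X} (hx : x ∈ nvU u U d f) :
    ∃ z, (π u pL chartL).base z = x := by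
  have := isIso_p hjL hPL hL
  obtain ⟨V, hV, g, hxV, hVN, hg⟩ := exists_triv (L := L) hL hx
  have hVU : V ≤ q ⁻¹ᵁ U := hVN.trans (nv_le _ _)
  obtain ⟨z, hz⟩ : ∃ z : PL, pL.base z = x := ⟨(inv pL).base x, by
    change (inv pL ≫ pL).base x = x
    rw [IsIso.inv_hom_id]; rfl⟩
  obtain ⟨y, hy⟩ := (Groth.Ega2P2.projCharts hPL).mem_range hV (x := z) (hz ▸ hxV)
  obtain ⟨c, hc⟩ := exists_coeff hjL hV hg (rs_mem_deg u hf V hV hVU)
  have hyd : z ∈ RelProj.domQ u pL chartL := by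
    rw [← hy]
    refine (Groth.Ega2P2.emb_mem_domQ_iff u hPL hU hV hVU y).2
      ((Groth.Ega2P2.mem_domOpen_iff u hU hV hVU y).2 ⟨d, f, hd, hf, ?_⟩)
    rw [show u.gradedAt U hU V hV hVU f = rs 𝒮L hVU ((u.app U).hom f) from rfl, hc,
      mem_basicOpen_coeff_iff hjL hV hg hPL hd c y,
      show pL.base ((RelProj.emb pL chartL V hV).base y) = x from (congrArg pL.base hy).trans hz]
    exact (mem_nv_iff hjL hV hg hVU hc hxV).1 hx
  exact ⟨⟨z, hyd⟩, hz⟩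

include hjL hL hPL hd hf in
theorem bijective_π_app : Function.Bijective ((π u pL chartL).app (nvU u U d f)).hom := by
  have := isOpenImmersion_π hjL hL hPL u
  have := (π u pL chartL).isIso_app (nvU u U d f) fun x hx => nvU_le_range hjL hL hPL u hd hf hx
  exact ConcreteCategory.bijective_of_isIso ((π u pL chartL).app (nvU u U d f))

/-- The ring map of `r` over `D₊(f)`. -/
def phi : HomogeneousLocalization.Away (𝒜.deg U hU) f →+* Γ(X, nvU u U d f) :=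
  (RingEquiv.ofBijective _ (bijective_π_app hjL hL hPL u hd hf)).symm.toRingHom.comp
    ((r.appLE (dp chart U hU f) (π u pL chartL ⁻¹ᵁ nvU u U d f)
      (preimage_dp hjL hL hPL hP u hr hd hf).ge).hom.comp (coordF chart U hU hd f hf).hom.hom)

theorem app_phi (x : HomogeneousLocalization.Away (𝒜.deg U hU) f) :
    ((π u pL chartL).app (nvU u U d f)).hom (phi hjL hL hPL hP u hr hd hf x) =
      (r.appLE (dp chart U hU f) (π u pL chartL ⁻¹ᵁ nvU u U d f)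
        (preimage_dp hjL hL hPL hP u hr hd hf).ge) ((coordF chart U hU hd f hf).hom x) :=
  (RingEquiv.ofBijective _ (bijective_π_app hjL hL hPL u hd hf)).apply_symm_apply _

include hjL hL hPL hP hr in
theorem fromZero_phi {V : X.Opens} (hV : IsAffineOpen V) (hVN : V ≤ nvU u U d f)
    (x : HomogeneousLocalization.Away (𝒜.deg U hU) f) :
    HomogeneousLocalization.fromZeroRingHom (𝒮L.deg V hV)
        (Submonoid.powers (u.gradedAt U hU V hV (hVN.trans (nv_le _ _)) f))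
        ((𝒮L.strZero V hV).hom (resX X hVN (phi hjL hL hPL hP u hr hd hf x))) =
      HomogeneousLocalization.Away.map (u.gradedAt U hU V hV (hVN.trans (nv_le _ _))) f x := by
  set hVU := hVN.trans (nv_le _ _)
  have hW := Groth.Ega2P2.range_awayEmb_mem_domQ (p' := pL) (chart' := chartL) u
    ⟨U, hU, V, hV, hVU, d, hd, f, hf⟩
  set c := IsOpenImmersion.lift (RelProj.domQ u pL chartL).ι (RelProj.awayEmb u pL chartL U hU V hV hVU hd f hf) hW with hc
  have hcπ : c ≫ π u pL chartL = Proj.awayι (𝒮L.deg V hV) (u.gradedAt U hU V hV hVU f)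
      ((u.gradedAt U hU V hV hVU).map_mem hf) hd ≫ RelProj.emb pL chartL V hV ≫ pL := by
    rw [hc, IsOpenImmersion.lift_fac_assoc, RelProj.awayEmb, Category.assoc]
  have hcV : ⊤ ≤ (c ≫ π u pL chartL) ⁻¹ᵁ V := fun z _ => by
    rw [hcπ, Groth.Ega2P2.awayι_emb_p hPL V hV _ _ hd]
    exact hV.range_fromSpec.le ⟨_, rfl⟩
  have hcN : ⊤ ≤ c ⁻¹ᵁ (π u pL chartL ⁻¹ᵁ nvU u U d f) :=
    hcV.trans ((c ≫ π u pL chartL).preimage_mono hVN)
  refine (ConcreteCategory.bijective_of_isIso (Scheme.ΓSpecIso (CommRingCat.of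
    (HomogeneousLocalization.Away (𝒮L.deg V hV) (u.gradedAt U hU V hV hVU f)))).inv).1 ?_
  have e1 : ∀ (k : Spec (CommRingCat.of (HomogeneousLocalization.Away (𝒮L.deg V hV) (u.gradedAt U hU V hV hVU f))) ⟶ X)
      (_ : k = Proj.awayι (𝒮L.deg V hV) (u.gradedAt U hU V hV hVU f)
        ((u.gradedAt U hU V hV hVU).map_mem hf) hd ≫ RelProj.emb pL chartL V hV ≫ pL) (hk : ⊤ ≤ k ⁻¹ᵁ V)
      (a : Γ(X, V)), k.appLE V ⊤ hk a = (Scheme.ΓSpecIso _).inv
        (HomogeneousLocalization.fromZeroRingHom (𝒮L.deg V hV)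
          (Submonoid.powers (u.gradedAt U hU V hV hVU f)) ((𝒮L.strZero V hV).hom a)) := by
    rintro k rfl hk a
    exact Groth.RelVA.awayι_chartL_appLE hPL hV _ _ hd hk a
  refine (e1 _ hcπ hcV _).symm.trans ?_
  have e2 : (c ≫ π u pL chartL).appLE V ⊤ hcV (resX X hVN (phi hjL hL hPL hP u hr hd hf x)) =
      c.appLE (π u pL chartL ⁻¹ᵁ nvU u U d f) ⊤ hcN
        (((π u pL chartL).app (nvU u U d f)).hom (phi hjL hL hPL hP u hr hd hf x)) := by
    refine Eq.trans ?_ (congr(($(Scheme.Hom.appLE_comp_appLE c (π u pL chartL) (nvU u U d f) _ ⊤ le_rfl hcN)).hom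
      (phi hjL hL hPL hP u hr hd hf x))).symm |>.trans ?_
    · exact congr(($(Scheme.Hom.map_appLE (c ≫ π u pL chartL) hcV (homOfLE hVN).op)).hom
        (phi hjL hL hPL hP u hr hd hf x))
    · rw [CommRingCat.comp_apply, ← Scheme.Hom.app_eq_appLE]
  rw [e2, app_phi]
  have e3 : ∀ (k : Spec (CommRingCat.of (HomogeneousLocalization.Away (𝒮L.deg V hV) (u.gradedAt U hU V hV hVU f))) ⟶ P)
      (_ : k = Spec.map (CommRingCat.ofHom (HomogeneousLocalization.Away.map (u.gradedAt U hU V hV hVU) f)) ≫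
        Proj.awayι (𝒜.deg U hU) f hf hd ≫ RelProj.emb p chart U hU) (hk : ⊤ ≤ k ⁻¹ᵁ dp chart U hU f),
      k.appLE (dp chart U hU f) ⊤ hk ((coordF chart U hU hd f hf).hom x) =
        (Scheme.ΓSpecIso _).inv (HomogeneousLocalization.Away.map (u.gradedAt U hU V hV hVU) f x) := by
    rintro k rfl hk
    have hS : ∀ {A B : CommRingCat.{u}} (φ : A ⟶ B) (hh : ⊤ ≤ Spec.map φ ⁻¹ᵁ ⊤),
        (Spec.map φ).appLE ⊤ ⊤ hh = (Spec.map φ).appTop := fun φ hh => by simp [Scheme.Hom.appLE]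
    rw [← Scheme.Hom.appLE_comp_appLE _ _ (dp chart U hU f) ⊤ ⊤ (le_awayι_emb hd hf) le_top,
      CommRingCat.comp_apply, awayι_emb_appLE_coordF hd hf, hS]
    exact congr(($(Scheme.ΓSpecIso_inv_naturality (CommRingCat.ofHom
      (HomogeneousLocalization.Away.map (u.gradedAt U hU V hV hVU) f)))).hom x).symm
  refine Eq.trans ?_ (e3 (c ≫ r) (hr U hU V hV hVU d hd f hf hW)
    (hcN.trans (c.preimage_mono (preimage_dp hjL hL hPL hP u hr hd hf).ge)))
  exact congr(($(Scheme.Hom.appLE_comp_appLE c r (dp chart U hU f) (π u pL chartL ⁻¹ᵁ nvU u U d f) ⊤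
    (preimage_dp hjL hL hPL hP u hr hd hf).ge hcN)).hom ((coordF chart U hU hd f hf).hom x))

include hjL hL hPL hP hr in
/-- `φ(x / fᵏ) (u f)ᵏ = u x`. -/
theorem sc_phi_mul (k : ℕ) {x : 𝒜.presheaf.obj (op U)} (hx : x ∈ 𝒜.deg U hU (k • d)) :
    sc 𝒮L (nvU u U d f) (phi hjL hL hPL hP u hr hd hf (HomogeneousLocalization.Away.mk (𝒜.deg U hU) hf k x hx)) *
        rs 𝒮L (nv_le _ _) ((u.app U).hom f) ^ k =
      rs 𝒮L (nv_le _ _) ((u.app U).hom x) := by
  choose V hV g hxV hVN hg using fun x : (nvU u U d f : X.Opens) => exists_triv (L := L) hL x.2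
  refine eq_of_locally (fun x => V x) hVN (fun y hy => Opens.mem_iSup.2 ⟨⟨y, hy⟩, hxV ⟨y, hy⟩⟩) fun z => ?_
  simp only [map_mul, map_pow, rs_sc, rs_rs]
  have h := fromZero_phi hjL hL hPL hP u hr hd hf (hV z) (hVN z)
    (HomogeneousLocalization.Away.mk (𝒜.deg U hU) hf k x hx)
  have h' := congrArg HomogeneousLocalization.val h
  rw [HomogeneousLocalization.Away.map_mk, HomogeneousLocalization.Away.val_mk] at h'
  change Localization.mk (sc 𝒮L (V z) _) 1 = _ at h'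
  rw [Localization.mk_eq_mk_iff, Localization.r_iff_exists] at h'
  obtain ⟨⟨_, m, rfl⟩, hm⟩ := h'
  set t := rs 𝒮L ((hVN z).trans (nv_le _ _)) ((u.app U).hom f) with ht
  set s := rs 𝒮L ((hVN z).trans (nv_le _ _)) ((u.app U).hom x) with hs
  set a := resX X (hVN z) (phi hjL hL hPL hP u hr hd hf (HomogeneousLocalization.Away.mk (𝒜.deg U hU) hf k x hx))
  replace hm : t ^ m * (t ^ k * sc 𝒮L (V z) a) = t ^ m * (1 * s) := hm
  obtain ⟨c, hc, hfc⟩ := exists_unit_coeff hjL (hV z) (hg z) (hVN z) (rs_mem_deg u hf _ (hV z) _)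
  obtain ⟨b, hb⟩ := exists_coeff hjL (hV z) (hg z) (rs_mem_deg u hx _ (hV z) ((hVN z).trans (nv_le _ _)))
  rw [← ht] at hfc
  rw [← hs] at hb
  rw [hb, hfc] at hm ⊢
  simp only [mul_pow, ← map_pow, ← pow_mul] at hm ⊢
  have h3 : sc 𝒮L (V z) (c ^ m * (a * c ^ k)) * jel 𝒮L jL (V z) (g z) ^ (d * m + d * k) =
      sc 𝒮L (V z) (c ^ m * b) * jel 𝒮L jL (V z) (g z) ^ (d * m + d * k) := by
    simp only [map_mul, pow_add]
    rw [show k • d = d * k from by rw [smul_eq_mul, mul_comm]] at hm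
    linear_combination hm
  have h4 := (hc.pow m).mul_right_inj.1 (coeff_inj hjL (hV z) (hg z) h3)
  rw [← mul_assoc, ← map_mul, h4, show k • d = d * k from by rw [smul_eq_mul, mul_comm]]

end Groth.RLpsi
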