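import Groth.Agent.RLpsi.Comp

/-!
# Immersions and colimits of algebras
-/

universe u

open CategoryTheory CategoryTheory.Limits AlgebraicGeometry Opposite TopologicalSpace
open scoped HomogeneousIdeal

set_option backward.isDefEq.respectTransparency.types false

noncomputable section

namespace Groth.RLpsi

open Groth.PicAux Groth.RelTw

variable {X Y P P' PL : Scheme.{u}} {q : X ⟶ Y} {L : X.Modules} [L.IsQuasicoherent]
  {𝒮L : RelProj.QCGrAlg X} {jL : L ⟶ 𝒮L.toModule} (hjL : RelProj.IsGrSymAlg L 𝒮L jL)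
  (hL : PicF.IsInvertible L)
  {pL : PL ⟶ X}
  {chartL : ∀ (U : X.Opens) (hU : IsAffineOpen U), (((pL ⁻¹ᵁ U : PL.Opens) : Scheme.{u}) ≅ Proj (𝒮L.deg U hU))}
  (hPL : RelProj.IsRelProj 𝒮L pL chartL)
  {𝒜 : RelProj.QCGrAlg Y} {p : P ⟶ Y}
  {chart : ∀ (U : Y.Opens) (hU : IsAffineOpen U), (((p ⁻¹ᵁ U : P.Opens) : Scheme.{u}) ≅ Proj (𝒜.deg U hU))}
  (hP : RelProj.IsRelProj 𝒜 p chart)
  (u : RelProj.QGrHom q 𝒜 𝒮L)
  {r : ((RelProj.domQ u pL chartL : PL.Opens) : Scheme.{u}) ⟶ P}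
  (hr : RelProj.IsProjQMapOn u p chart pL chartL (RelProj.domQ u pL chartL) r)
  {𝒯 : RelProj.QCGrAlg Y} {p' : P' ⟶ Y}
  {chart' : ∀ (U : Y.Opens) (hU : IsAffineOpen U), (((p' ⁻¹ᵁ U : P'.Opens) : Scheme.{u}) ≅ Proj (𝒯.deg U hU))}
  (hP' : RelProj.IsRelProj 𝒯 p' chart')
  {u' : RelProj.QGrHom q 𝒯 𝒮L}
  {r' : ((RelProj.domQ u' pL chartL : PL.Opens) : Scheme.{u}) ⟶ P'}
  (hr' : RelProj.IsProjQMapOn u' p' chart' pL chartL (RelProj.domQ u' pL chartL) r')
  {v : 𝒯.toQCAlg ⟶ 𝒜.toQCAlg} (hv : RelProj.IsGradedHom v)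
  (hu' : ∀ U : Y.Opens, u'.app U = v.hom.app (op U) ≫ u.app U)

include hjL hL hPL hP hr hP' hr' hv hu' in
/-- An everywhere defined immersion `r'` gives one `r`. -/
theorem top_and_isImmersion_comp (hdef : RelProj.domQ u' pL chartL = ⊤) [IsImmersion r'] :
    RelProj.domQ u pL chartL = ⊤ ∧ IsImmersion r := by
  have htop : RelProj.domQ u pL chartL = ⊤ := mem_domQ_of_forall hjL hL hPL u fun x => by
    obtain ⟨U, hU, hxU, -⟩ := exists_isAffineOpen_mem_and_subset (x := q.base x) (U := (⊤ : Y.Opens)) trivial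
    obtain ⟨d, g, hd, hg, hx⟩ := exists_nvU_of_top hjL hL hPL hP' u' hr' hdef x hU hxU
    exact ⟨U, hU, d, _, hd, hv U hU d g hg, nvU_comp u hu' U d g ▸ hx⟩
  have key : ∀ z : ((RelProj.domQ u pL chartL : PL.Opens) : Scheme.{u}), ∃ (U : Y.Opens) (hU : IsAffineOpen U) (d : ℕ)
      (g : 𝒯.presheaf.obj (op U)), 0 < d ∧ g ∈ 𝒯.deg U hU d ∧ r.base z ∈ dp chart U hU ((v.hom.app (op U)).hom g) ∧
        dp chart' U hU g ≤ ⟨coborder (Set.range r'.base), r'.isLocallyClosed_range.isOpen_coborder⟩ := by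
    intro z
    let z' : ((RelProj.domQ u' pL chartL : PL.Opens) : Scheme.{u}) := ⟨z.1, hdef.ge trivial⟩
    obtain ⟨U, hU, hxU, -⟩ := exists_isAffineOpen_mem_and_subset (x := p'.base (r'.base z')) (U := (⊤ : Y.Opens)) trivial
    obtain ⟨d, g, hd, hg, hzg, hle⟩ := exists_dp_le hP' hU hxU (x := r'.base z')
      (O := ⟨coborder (Set.range r'.base), r'.isLocallyClosed_range.isOpen_coborder⟩) (subset_coborder ⟨z', rfl⟩)
    refine ⟨U, hU, d, g, hd, hg, (mem_dp_iff hjL hL hPL hP u hr hd (hv U hU d g hg) z).2 ?_, hle⟩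
    have h1 := (mem_dp_iff hjL hL hPL hP' u' hr' hd hg z').1 hzg
    rw [nvU_comp u hu'] at h1
    exact h1
  choose U hU d g hd hg hz hle using key
  refine ⟨htop, isImmersion_of_cover_range r (fun z => dp chart (U z) (hU z) ((v.hom.app (op (U z))).hom (g z)))
    (fun z => ⟨z, hz z⟩) fun z => ?_⟩
  have := isClosedImmersion_restrict_of_le r' _ (hle z)
  have := isClosedImmersion_piece_comp hjL hL hPL hP u hr hP' hr' hv hu' (hd z) (hg z)
  infer_instance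

variable {U : Y.Opens} {hU : IsAffineOpen U} {d : ℕ} (hd : 0 < d) {f : 𝒜.presheaf.obj (op U)}
  (hf : f ∈ 𝒜.deg U hU d)

include hjL hL hPL hP hr in
theorem str_mem_range_phi (a : Γ(Y, U)) :
    (q.appLE U (nvU u U d f) (nv_le _ _)).hom a ∈ (phi hjL hL hPL hP u hr hd hf).range := by
  have ha : (𝒜.str.app (op U)).hom a ∈ 𝒜.deg U hU (0 • d) := by rw [zero_smul]; exact 𝒜.str_mem U hU a
  refine ⟨HomogeneousLocalization.Away.mk (𝒜.deg U hU) hf 0 _ ha, eq_of_sc_mul_eq hjL hL (rs_mem_deg u hf) le_rfl 0 ?_⟩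
  rw [sc_phi_mul hjL hL hPL hP u hr hd hf 0 ha, pow_zero, mul_one]
  exact congr(($(u.toQHom.str_appLE U (nvU u U d f) (nv_le _ _))).hom a)

include hjL hL hPL hP hr in
theorem mem_range_phi {t : Γ(X, nvU u U d f)} {m : ℕ} {s : 𝒜.presheaf.obj (op U)} (hs : s ∈ 𝒜.deg U hU (m * d))
    (he : sc 𝒮L (nvU u U d f) t * rs 𝒮L (nv_le _ _) ((u.app U).hom f) ^ m = rs 𝒮L (nv_le _ _) ((u.app U).hom s)) :
    t ∈ (phi hjL hL hPL hP u hr hd hf).range := by
  have hs' : s ∈ 𝒜.deg U hU (m • d) := by rwa [smul_eq_mul]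
  exact ⟨HomogeneousLocalization.Away.mk (𝒜.deg U hU) hf m s hs',
    eq_of_sc_mul_eq hjL hL (rs_mem_deg u hf) le_rfl m ((sc_phi_mul hjL hL hPL hP u hr hd hf m hs').trans he.symm)⟩

include hjL hL hPL hP hr in
/-- Finitely many witnesses suffice for surjectivity over a finite type morphism. -/
theorem surjective_phi_of_generators [LocallyOfFiniteType q] (hN : IsAffineOpen (nvU u U d f))
    (S : Finset Γ(X, nvU u U d f))
    (hS : letI := (q.appLE U (nvU u U d f) (nv_le _ _)).hom.toAlgebra;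
      Algebra.adjoin Γ(Y, U) (S : Set Γ(X, nvU u U d f)) = ⊤)
    (h : ∀ t ∈ S, t ∈ (phi hjL hL hPL hP u hr hd hf).range) :
    Function.Surjective (phi hjL hL hPL hP u hr hd hf) := by
  let _ := (q.appLE U (nvU u U d f) (nv_le _ _)).hom.toAlgebra
  intro t
  have ht : t ∈ Algebra.adjoin Γ(Y, U) (S : Set Γ(X, nvU u U d f)) := hS ▸ Algebra.mem_top
  change t ∈ (phi hjL hL hPL hP u hr hd hf).range
  induction ht using Algebra.adjoin_induction with
  | mem x hx => exact h x hx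
  | algebraMap a => exact str_mem_range_phi hjL hL hPL hP u hr hd hf a
  | add _ _ _ _ ha hb => exact add_mem ha hb
  | mul _ _ _ _ ha hb => exact mul_mem ha hb

end Groth.RLpsi
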