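import Groth.Agent.RLpsi.Dominant

/-!
# Immersions after a change of algebra
-/

universe u

open CategoryTheory CategoryTheory.Limits AlgebraicGeometry Opposite TopologicalSpace
open scoped HomogeneousIdeal

set_option backward.isDefEq.respectTransparency.types false

noncomputable section

namespace Groth.RLpsi

open Groth.PicAux Groth.RelTw

variable {X Y P P' PL : Scheme.{u}} {q : X ⟶ Y} {L : X.Modules} [L.IsQuasicoherent]
  {𝒮L : RelProj.QCGrAlg X} {jL : L ⟶ 𝒮L.toModule} (hjL : RelProj.IsGrSymAlg L 𝒮L jL)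
  (hL : PicF.IsInvertible L)
  {pL : PL ⟶ X}
  {chartL : ∀ (U : X.Opens) (hU : IsAffineOpen U), (((pL ⁻¹ᵁ U : PL.Opens) : Scheme.{u}) ≅ Proj (𝒮L.deg U hU))}
  (hPL : RelProj.IsRelProj 𝒮L pL chartL)
  {𝒜 : RelProj.QCGrAlg Y} {p : P ⟶ Y}
  {chart : ∀ (U : Y.Opens) (hU : IsAffineOpen U), (((p ⁻¹ᵁ U : P.Opens) : Scheme.{u}) ≅ Proj (𝒜.deg U hU))}
  (hP : RelProj.IsRelProj 𝒜 p chart)
  (u : RelProj.QGrHom q 𝒜 𝒮L)
  {r : ((RelProj.domQ u pL chartL : PL.Opens) : Scheme.{u}) ⟶ P}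
  (hr : RelProj.IsProjQMapOn u p chart pL chartL (RelProj.domQ u pL chartL) r)
  {𝒯 : RelProj.QCGrAlg Y} {p' : P' ⟶ Y}
  {chart' : ∀ (U : Y.Opens) (hU : IsAffineOpen U), (((p' ⁻¹ᵁ U : P'.Opens) : Scheme.{u}) ≅ Proj (𝒯.deg U hU))}
  (hP' : RelProj.IsRelProj 𝒯 p' chart')
  {u' : RelProj.QGrHom q 𝒯 𝒮L}
  {r' : ((RelProj.domQ u' pL chartL : PL.Opens) : Scheme.{u}) ⟶ P'}
  (hr' : RelProj.IsProjQMapOn u' p' chart' pL chartL (RelProj.domQ u' pL chartL) r')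
  {v : 𝒯.toQCAlg ⟶ 𝒜.toQCAlg} (hv : RelProj.IsGradedHom v)
  (hu' : ∀ U : Y.Opens, u'.app U = v.hom.app (op U) ≫ u.app U)
  {U : Y.Opens} {hU : IsAffineOpen U} {d : ℕ} (hd : 0 < d) {g : 𝒯.presheaf.obj (op U)}
  (hg : g ∈ 𝒯.deg U hU d)

include hjL hL hPL hP hr hP' hr' hd hg hv hu' in
/-- A closed piece of `r'` gives a closed piece of `r`. -/
theorem closed_piece_comp [IsClosedImmersion (r' ∣_ dp chart' U hU g)] :
    IsAffineOpen (nvU u U d ((v.hom.app (op U)).hom g)) ∧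
      Function.Surjective (phi hjL hL hPL hP u hr hd (hv U hU d g hg)) := by
  obtain ⟨h1, h2⟩ := of_isClosedImmersion_restrict hjL hL hPL hP' u' hr' hd hg
  rw [nvU_comp u hu'] at h1
  refine ⟨h1, (surjective_phi_iff hjL hL hPL hP u hr hd (hv U hU d g hg)).2 ?_⟩
  have key : ∀ (N : X.Opens) (_ : N = nvU u' U d g) (hN : N ≤ q ⁻¹ᵁ U) (t : Γ(X, N)),
      ∃ (m : ℕ) (_ : 0 < m) (s : 𝒜.presheaf.obj (op U)) (_ : s ∈ 𝒜.deg U hU (m * d)),
        sc 𝒮L N t * rs 𝒮L hN ((u.app U).hom ((v.hom.app (op U)).hom g)) ^ m = rs 𝒮L hN ((u.app U).hom s) := by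
    rintro N rfl hN t
    obtain ⟨m, hm, s, hs, he⟩ := (surjective_phi_iff hjL hL hPL hP' u' hr' hd hg).1 h2 t
    refine ⟨m, hm, (v.hom.app (op U)).hom s, hv U hU _ s hs, ?_⟩
    simpa only [app_comp u hu'] using he
  exact key _ (nvU_comp u hu' U d g).symm _

include hjL hL hPL hP hr hP' hr' hd hg hv hu' in
theorem isClosedImmersion_piece_comp [IsClosedImmersion (r' ∣_ dp chart' U hU g)] :
    IsClosedImmersion (r ∣_ dp chart U hU ((v.hom.app (op U)).hom g)) := by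
  obtain ⟨h1, h2⟩ := closed_piece_comp hjL hL hPL hP u hr hP' hr' hv hu' hd hg
  exact isClosedImmersion_restrict hjL hL hPL hP u hr hd (hv U hU d g hg) h1 h2

include hjL hL hPL hP hr hP' hr' hd hg hv hu' in
/-- An isomorphic piece of `r'` gives one of `r` when the algebra map is surjective in large degrees. -/
theorem isIso_piece_comp [IsIso (r' ∣_ dp chart' U hU g)]
    (hTN : ∃ n : ℕ, ∀ k, n ≤ k → ∀ y ∈ 𝒜.deg U hU k, ∃ x ∈ 𝒯.deg U hU k, (v.hom.app (op U)).hom x = y) :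
    IsIso (r ∣_ dp chart U hU ((v.hom.app (op U)).hom g)) := by
  obtain ⟨h1, h2⟩ := closed_piece_comp hjL hL hPL hP u hr hP' hr' hv hu' hd hg
  refine isIso_restrict hjL hL hPL hP u hr hd (hv U hU d g hg) h1
    ⟨(injective_phi_iff hjL hL hPL hP u hr hd (hv U hU d g hg)).2 ?_, h2⟩
  intro m hm s hs h0
  obtain ⟨n, hn⟩ := hTN
  set f := (v.hom.app (op U)).hom g with hfdef
  have hsf : s * f ^ n ∈ 𝒜.deg U hU ((m + n) * d) := by
    have := SetLike.mul_mem_graded hs (SetLike.pow_mem_graded n (hv U hU d g hg))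
    rwa [smul_eq_mul, ← add_mul] at this
  obtain ⟨t, ht, hvt⟩ := hn _ (le_trans (Nat.le_add_left n m) (Nat.le_mul_of_pos_right _ hd)) _ hsf
  have hinj := (injective_phi_iff hjL hL hPL hP' u' hr' hd hg).1
    (injective_phi_of_isIso hjL hL hPL hP' u' hr' hd hg) (m + n) (by omega) t ht
  have key : ∀ (N : X.Opens) (_ : N = nvU u U d f) (hN : N ≤ q ⁻¹ᵁ U),
      rs 𝒮L hN ((u'.app U).hom t) = 0 := by
    rintro N rfl hN
    rw [app_comp u hu', hvt, map_mul, map_mul, h0, zero_mul]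
  obtain ⟨k, hk, hkt⟩ := hinj (key _ (nvU_comp u hu' U d g) _)
  refine ⟨k + n, by omega, ?_⟩
  have h3 := congrArg (v.hom.app (op U)).hom hkt
  rw [map_mul, map_pow, map_zero, hvt, ← hfdef] at h3
  rw [← h3, pow_add]
  ring

end Groth.RLpsi
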