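import Groth.Agent.RLpsi.Affine

/-!
# Dominance of `r_{L,ψ}` and change of the algebra
-/

universe u

open CategoryTheory CategoryTheory.Limits AlgebraicGeometry Opposite TopologicalSpace
open scoped HomogeneousIdeal

set_option backward.isDefEq.respectTransparency.types false

noncomputable section

namespace Groth.RLpsi

open Groth.PicAux Groth.RelTw

section basics

variable {S P : Scheme.{u}} {𝒮 : RelProj.QCGrAlg S} {p : P ⟶ S}
  {chart : ∀ (U : S.Opens) (hU : IsAffineOpen U), (((p ⁻¹ᵁ U : P.Opens) : Scheme.{u}) ≅ Proj (𝒮.deg U hU))}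
  {U : S.Opens} {hU : IsAffineOpen U} {d : ℕ} (hd : 0 < d) {f : 𝒮.presheaf.obj (op U)}
  (hf : f ∈ 𝒮.deg U hU d)

include hd hf in
theorem exists_mem_dp_of_not_nilpotent (hn : ¬ IsNilpotent f) : ∃ x : P, x ∈ dp chart U hU f := by
  let A := HomogeneousLocalization.Away (𝒮.deg U hU) f
  have : Nontrivial A := by
    by_contra hcon
    rw [not_nontrivial_iff_subsingleton] at hcon
    refine hn ?_
    have h1 := congrArg HomogeneousLocalization.val (Subsingleton.elim (1 : A) 0)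
    rw [HomogeneousLocalization.val_one, HomogeneousLocalization.val_zero, eq_comm, ← (algebraMap (𝒮.presheaf.obj (op U)) (Localization.Away f)).map_one,
      eq_comm, IsLocalization.map_eq_zero_iff (Submonoid.powers f)] at h1
    obtain ⟨⟨_, n, rfl⟩, hn'⟩ := h1
    exact ⟨n, by simpa using hn'⟩
  obtain ⟨z⟩ := (inferInstance : Nonempty (PrimeSpectrum A))
  let z' : Spec (CommRingCat.of A) := z
  exact ⟨_, (Proj.awayι (𝒮.deg U hU) f hf hd).base z',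
    (Proj.opensRange_awayι (𝒮.deg U hU) f hf hd).le ⟨z', rfl⟩, rfl⟩

include hd in
theorem not_nilpotent_of_mem_dp {x : P} (hx : x ∈ dp chart U hU f) : ¬ IsNilpotent f := by
  rintro ⟨n, hn⟩
  obtain ⟨y, hy, -⟩ := hx
  exact hy (y.isPrime.mem_of_pow_mem n (hn ▸ zero_mem _))

theorem dp_pow {m : ℕ} (hm : 0 < m) : dp chart U hU (f ^ m) = dp chart U hU f := by
  rw [dp, Proj.basicOpen_pow (𝒮.deg U hU) f m hm]

end basics

theorem isNilpotent_of_basicOpen_eq_bot {X : Scheme.{u}} {V : X.Opens} (hV : IsAffineOpen V) {c : Γ(X, V)}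
    (h : X.basicOpen c = ⊥) : IsNilpotent c := by
  refine PrimeSpectrum.basicOpen_eq_bot_iff c |>.1 ?_
  exact (hV.fromSpec_preimage_basicOpen c).symm.trans (by rw [h]; rfl)

variable {X Y P PL : Scheme.{u}} {q : X ⟶ Y} {L : X.Modules} [L.IsQuasicoherent]
  {𝒮L : RelProj.QCGrAlg X} {jL : L ⟶ 𝒮L.toModule} (hjL : RelProj.IsGrSymAlg L 𝒮L jL)
  (hL : PicF.IsInvertible L)
  {pL : PL ⟶ X}
  {chartL : ∀ (U : X.Opens) (hU : IsAffineOpen U), (((pL ⁻¹ᵁ U : PL.Opens) : Scheme.{u}) ≅ Proj (𝒮L.deg U hU))}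
  (hPL : RelProj.IsRelProj 𝒮L pL chartL)
  {𝒜 : RelProj.QCGrAlg Y} {p : P ⟶ Y}
  {chart : ∀ (U : Y.Opens) (hU : IsAffineOpen U), (((p ⁻¹ᵁ U : P.Opens) : Scheme.{u}) ≅ Proj (𝒜.deg U hU))}
  (hP : RelProj.IsRelProj 𝒜 p chart)
  (u : RelProj.QGrHom q 𝒜 𝒮L)
  {r : ((RelProj.domQ u pL chartL : PL.Opens) : Scheme.{u}) ⟶ P}
  (hr : RelProj.IsProjQMapOn u p chart pL chartL (RelProj.domQ u pL chartL) r)
  {U : Y.Opens} {hU : IsAffineOpen U} {d : ℕ} {f : 𝒜.presheaf.obj (op U)}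
  (hf : f ∈ 𝒜.deg U hU d)

include hjL hL hf in
theorem nvU_pow {m : ℕ} (hm : 0 < m) : nvU u U (d * m) (f ^ m) = nvU u U d f := by
  refine Opens.ext (Set.ext fun x => ?_)
  by_cases hx : x ∈ q ⁻¹ᵁ U
  · obtain ⟨V, hV, g, hxV, hVU, hg⟩ := exists_triv (L := L) hL hx
    obtain ⟨c, hc⟩ := exists_coeff hjL hV hg (rs_mem_deg u hf V hV hVU)
    have hc' : rs 𝒮L hVU ((u.app U).hom (f ^ m)) = sc 𝒮L V (c ^ m) * jel 𝒮L jL V g ^ (d * m) := by
      rw [map_pow, map_pow, hc, mul_pow, ← map_pow, ← pow_mul]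
    exact ((mem_nv_iff hjL hV hg hVU hc' hxV).trans (by rw [X.basicOpen_pow _ hm])).trans
      (mem_nv_iff hjL hV hg hVU hc hxV).symm
  · exact iff_of_false (fun h => hx (nv_le _ _ h)) fun h => hx (nv_le _ _ h)

include hjL hL hf in
/-- The section vanishes nowhere iff it is not locally nilpotent. -/
theorem exists_nilpotent_of_nvU_eq_bot (hd : 0 < d) (h : nvU u U d f = ⊥) {x : X} (hx : x ∈ q ⁻¹ᵁ U) :
    ∃ (V : X.Opens) (_ : IsAffineOpen V) (hVU : V ≤ q ⁻¹ᵁ U), x ∈ V ∧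
      IsNilpotent (rs 𝒮L hVU ((u.app U).hom f)) := by
  obtain ⟨V, hV, g, hxV, hVU, hg⟩ := exists_triv (L := L) hL hx
  obtain ⟨c, hc⟩ := exists_coeff hjL hV hg (rs_mem_deg u hf V hV hVU)
  refine ⟨V, hV, hVU, hxV, hc ▸ ?_⟩
  refine (Commute.all _ _).isNilpotent_mul_right (IsNilpotent.map (isNilpotent_of_basicOpen_eq_bot hV ?_) _)
  refine eq_bot_iff.2 fun w hw => ?_
  have := (mem_nv_iff hjL hV hg hVU hc (X.basicOpen_le c hw)).2 hw
  rwa [show nv 𝒮L (q ⁻¹ᵁ U) ((u.app U).hom f) d = ⊥ from h] at this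

include hjL hL hf in
theorem notMem_nvU_of_nilpotent {x : X} {V : X.Opens} (hVU : V ≤ q ⁻¹ᵁ U) (hxV : x ∈ V)
    (hn : IsNilpotent (rs 𝒮L hVU ((u.app U).hom f))) : x ∉ nvU u U d f := by
  intro hxN
  obtain ⟨V', hV', g, hxV', hle, hg⟩ := exists_triv (L := L) hL (W := V ⊓ nvU u U d f) ⟨hxV, hxN⟩
  obtain ⟨c, hc, hfc⟩ := exists_unit_coeff hjL hV' hg (hle.trans inf_le_right)
    (rs_mem_deg u hf V' hV' _)
  obtain ⟨n, hn⟩ := hn
  have h1 := congrArg (rs 𝒮L (hle.trans inf_le_left)) hn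
  rw [map_pow, rs_rs, map_zero, hfc, mul_pow, ← map_pow, ← pow_mul] at h1
  have h2 : c ^ n = 0 := coeff_inj hjL hV' hg (h1.trans (by rw [map_zero, zero_mul]))
  have h3 : X.basicOpen (c ^ n) = ⊥ := by rw [h2]; exact X.basicOpen_zero V'
  rw [X.basicOpen_of_isUnit (hc.pow n)] at h3
  exact (h3.le hxV').elim

include hjL hL hPL hP hr in
/-- `r` is dominant iff sections with non-nilpotent source are non-zero somewhere. -/
theorem isDominant_iff :
    IsDominant r ↔ ∀ (U : Y.Opens) (hU : IsAffineOpen U) (d : ℕ) (_ : 0 < d) (f : 𝒜.presheaf.obj (op U))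
      (_ : f ∈ 𝒜.deg U hU d), ¬ IsNilpotent f → (nvU u U d f : Set X).Nonempty := by
  constructor
  · intro h U hU d hd f hf hn
    obtain ⟨x, hx⟩ := exists_mem_dp_of_not_nilpotent (chart := chart) hd hf hn
    obtain ⟨z, hz⟩ := h.denseRange.exists_mem_open (dp chart U hU f).2 ⟨x, hx⟩
    exact ⟨_, (mem_dp_iff hjL hL hPL hP u hr hd hf z).1 hz⟩
  · intro h
    refine ⟨dense_iff_inter_open.2 fun O hO ⟨x, hx⟩ => ?_⟩
    obtain ⟨U, hU, hxU, -⟩ := exists_isAffineOpen_mem_and_subset (x := p.base x) (U := (⊤ : Y.Opens)) trivial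
    obtain ⟨d, f, hd, hf, hxf, hle⟩ := exists_dp_le hP hU hxU (O := ⟨O, hO⟩) hx
    obtain ⟨w, hw⟩ := h U hU d hd f hf (not_nilpotent_of_mem_dp hd hxf)
    obtain ⟨z, rfl⟩ := nvU_le_range hjL hL hPL u hd hf hw
    exact ⟨r.base z, hle ((mem_dp_iff hjL hL hPL hP u hr hd hf z).2 hw), z, rfl⟩

variable {𝒯 : RelProj.QCGrAlg Y} {v : 𝒯.toQCAlg ⟶ 𝒜.toQCAlg} {u' : RelProj.QGrHom q 𝒯 𝒮L}
  (hu' : ∀ U : Y.Opens, u'.app U = v.hom.app (op U) ≫ u.app U)

include hu' in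
theorem app_comp (U : Y.Opens) (g : 𝒯.presheaf.obj (op U)) :
    (u'.app U).hom g = (u.app U).hom ((v.hom.app (op U)).hom g) := by
  rw [hu']; rfl

include hu' in
theorem nvU_comp (U : Y.Opens) (d : ℕ) (g : 𝒯.presheaf.obj (op U)) :
    nvU u' U d g = nvU u U d ((v.hom.app (op U)).hom g) := by
  rw [nvU, nvU, app_comp u hu']

end Groth.RLpsi
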