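import Groth.Agent.RLpsi.Dominant
import Groth.Agent.RelVA.GenDegOne

/-!
# Immersions `r_{L,ψ}` for algebras generated in degree one give very ample modules
-/

universe u

open CategoryTheory CategoryTheory.Limits AlgebraicGeometry Opposite TopologicalSpace
open scoped HomogeneousIdeal

set_option backward.isDefEq.respectTransparency.types false

noncomputable section

namespace Groth.RLpsi

open Groth.PicAux Groth.RelTw Groth.RelVA
open Groth.QCohMod (toB ofB)

/-- Over an algebra generated in degree one the fractions are generated by the linear ones. -/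
theorem away_induction {A : Type u} [CommRing A] {𝒜 : ℕ → AddSubgroup A} [GradedRing 𝒜]
    (hgen : Subring.closure ((𝒜 0 : Set A) ∪ (𝒜 1 : Set A)) = ⊤) {f : A} (hf : f ∈ 𝒜 1)
    (T : Subring (HomogeneousLocalization.Away 𝒜 f))
    (h1 : ∀ c (hc : c ∈ 𝒜 1), HomogeneousLocalization.Away.mk 𝒜 hf 1 c (by rwa [smul_eq_mul, mul_one]) ∈ T) :
    ∀ q, q ∈ T := by
  let m : ∀ (k : ℕ) (x : A), x ∈ 𝒜 k → HomogeneousLocalization.Away 𝒜 f :=
    fun k x hx => HomogeneousLocalization.Away.mk 𝒜 hf k x (by rwa [smul_eq_mul, mul_one])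
  have h0 : ∀ c (hc : c ∈ 𝒜 0), m 0 c hc ∈ T := by
    intro c hc
    refine (congrArg (· ∈ T) ?_).mpr (h1 (c * f) (by simpa using SetLike.mul_mem_graded hc hf))
    refine HomogeneousLocalization.val_injective _ ?_
    simp only [m, HomogeneousLocalization.Away.val_mk]
    rw [Localization.mk_eq_mk_iff, Localization.r_iff_exists]
    exact ⟨1, by simp only [OneMemClass.coe_one, one_mul]; ring⟩
  have hmul : ∀ (i j : ℕ) a b (ha : a ∈ 𝒜 i) (hb : b ∈ 𝒜 j),
      m (i + j) (a * b) (SetLike.mul_mem_graded ha hb) = m i a ha * m j b hb := by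
    intro i j a b ha hb
    refine HomogeneousLocalization.val_injective _ ?_
    simp only [m, HomogeneousLocalization.val_mul, HomogeneousLocalization.Away.val_mk, Localization.mk_mul]
    exact congrArg _ (Subtype.ext (pow_add f i j))
  have hzero : ∀ (k : ℕ) (h : (0 : A) ∈ 𝒜 k), m k 0 h = 0 := fun k h => by
    refine HomogeneousLocalization.val_injective _ ?_
    simp only [m, HomogeneousLocalization.Away.val_mk, HomogeneousLocalization.val_zero]
    exact Localization.mk_zero _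
  have hadd : ∀ (k : ℕ) a b (ha : a ∈ 𝒜 k) (hb : b ∈ 𝒜 k),
      m k (a + b) (add_mem ha hb) = m k a ha + m k b hb := by
    intro k a b ha hb
    refine HomogeneousLocalization.val_injective _ ?_
    simp only [m, HomogeneousLocalization.val_add, HomogeneousLocalization.Away.val_mk]
    exact (Localization.add_mk_self a _ b).symm
  have hcongr : ∀ (k : ℕ) {a b : A} (h : a = b) (ha : a ∈ 𝒜 k), m k a ha = m k b (h ▸ ha) := by
    rintro k a b rfl ha
    rfl
  have hneg : ∀ (k : ℕ) a (ha : a ∈ 𝒜 k), m k (-a) (neg_mem ha) = -m k a ha := by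
    intro k a ha
    refine eq_neg_of_add_eq_zero_left ?_
    rw [← hadd k (-a) a (neg_mem ha) ha]
    exact (hcongr k (neg_add_cancel a) (add_mem (neg_mem ha) ha)).trans (hzero k (zero_mem _))
  have hmon : ∀ x ∈ Submonoid.closure ((𝒜 0 : Set A) ∪ (𝒜 1 : Set A)),
      ∃ (k : ℕ) (hx : x ∈ 𝒜 k), m k x hx ∈ T := by
    intro x hx
    induction hx using Submonoid.closure_induction with
    | mem x hx =>
      rcases hx with hx | hx
      · exact ⟨0, hx, h0 x hx⟩
      · exact ⟨1, hx, h1 x hx⟩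
    | one => exact ⟨0, SetLike.GradedOne.one_mem, h0 1 SetLike.GradedOne.one_mem⟩
    | mul a b _ _ ha hb =>
      obtain ⟨i, ha, ha'⟩ := ha
      obtain ⟨j, hb, hb'⟩ := hb
      exact ⟨i + j, SetLike.mul_mem_graded ha hb, (hmul i j a b ha hb).symm ▸ mul_mem ha' hb'⟩
  have hall : ∀ x : A, ∀ k, m k (DirectSum.decompose 𝒜 x k : A) (SetLike.coe_mem _) ∈ T := by
    intro x
    have hx := Subring.mem_closure_iff.1 (hgen ▸ Subring.mem_top x)
    induction hx using AddSubgroup.closure_induction with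
    | mem x hx =>
      intro k
      obtain ⟨j, hj, hjT⟩ := hmon x hx
      rcases eq_or_ne j k with rfl | hjk
      · simpa only [DirectSum.decompose_of_mem_same _ hj] using hjT
      · simp only [DirectSum.decompose_of_mem_ne _ hj hjk, hzero, zero_mem]
    | zero =>
      intro k
      simp only [DirectSum.decompose_zero, DirectSum.zero_apply, ZeroMemClass.coe_zero, hzero, zero_mem]
    | add a b _ _ ha hb =>
      intro k
      simp only [DirectSum.decompose_add, DirectSum.add_apply, AddMemClass.coe_add]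
      rw [hadd k _ _ (SetLike.coe_mem _) (SetLike.coe_mem _)]
      exact add_mem (ha k) (hb k)
    | neg a _ ha =>
      intro k
      refine (congrArg (· ∈ T) ((hcongr k (b := -(DirectSum.decompose 𝒜 a k : A))
        (by rw [DirectSum.decompose_neg]; rfl) (SetLike.coe_mem _)).trans (hneg k _ (SetLike.coe_mem _)))).mpr ?_
      exact neg_mem (ha k)
  intro q
  obtain ⟨k, x, hx, rfl⟩ := HomogeneousLocalization.Away.mk_surjective 𝒜 hf q
  have hx' : x ∈ 𝒜 k := by rwa [smul_eq_mul, mul_one] at hx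
  simpa only [m, DirectSum.decompose_of_mem_same _ hx'] using hall x k

variable {X Y P PL : Scheme.{u}} {q : X ⟶ Y} {L : X.Modules} [L.IsQuasicoherent]
  {𝒮L : RelProj.QCGrAlg X} {jL : L ⟶ 𝒮L.toModule} (hjL : RelProj.IsGrSymAlg L 𝒮L jL)
  (hL : PicF.IsInvertible L)
  {pL : PL ⟶ X}
  {chartL : ∀ (U : X.Opens) (hU : IsAffineOpen U), (((pL ⁻¹ᵁ U : PL.Opens) : Scheme.{u}) ≅ Proj (𝒮L.deg U hU))}
  (hPL : RelProj.IsRelProj 𝒮L pL chartL)
  {𝒜 : RelProj.QCGrAlg Y} {p : P ⟶ Y}
  {chart : ∀ (U : Y.Opens) (hU : IsAffineOpen U), (((p ⁻¹ᵁ U : P.Opens) : Scheme.{u}) ≅ Proj (𝒜.deg U hU))}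
  (hP : RelProj.IsRelProj 𝒜 p chart)
  (u : RelProj.QGrHom q 𝒜 𝒮L)
  {r : ((RelProj.domQ u pL chartL : PL.Opens) : Scheme.{u}) ⟶ P}
  (hr : RelProj.IsProjQMapOn u p chart pL chartL (RelProj.domQ u pL chartL) r)

include hjL hL in
/-- Sections of `L` are determined by their images in the algebra. -/
theorem jel_inj {W : X.Opens} {a b : Γ(L, W)} (h : jel 𝒮L jL W a = jel 𝒮L jL W b) : a = b := by
  choose V hV g hxV hVW hg using fun x : W => exists_triv (L := L) hL x.2
  refine res_ext V hVW (fun y hy => Opens.mem_iSup.2 ⟨⟨y, hy⟩, hxV ⟨y, hy⟩⟩) fun x => ?_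
  obtain ⟨c, hc⟩ := exists_coeff_gen (hg x) (res L (hVW x) a)
  obtain ⟨c', hc'⟩ := exists_coeff_gen (hg x) (res L (hVW x) b)
  have h1 := congrArg (rs 𝒮L (hVW x)) h
  rw [rs_jel, rs_jel, ← hc, ← hc'] at h1
  have hs : ∀ e : Γ(X, V x), jel 𝒮L jL (V x) (e • g x) = sc 𝒮L (V x) e * jel 𝒮L jL (V x) (g x) ^ 1 := fun e => by
    rw [pow_one]; exact jL.app_smul e (g x)
  rw [hs, hs] at h1
  rw [← hc, ← hc', coeff_inj hjL (hV x) (hg x) h1]

include hjL hL in
/-- Degree one sections of `𝒜` give sections of `L`. -/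
theorem exists_section {U : Y.Opens} {hU : IsAffineOpen U} {y : 𝒜.presheaf.obj (op U)} (hy : y ∈ 𝒜.deg U hU 1) :
    ∃ s : Γ(L, q ⁻¹ᵁ U), jel 𝒮L jL (q ⁻¹ᵁ U) s = (u.app U).hom y := by
  choose V hV g hxV hVW hg using fun x : (q ⁻¹ᵁ U : X.Opens) => exists_triv (L := L) hL x.2
  choose c hc using fun x => exists_coeff hjL (hV x) (hg x) (rs_mem_deg u hy (V x) (hV x) (hVW x))
  have hloc : ∀ x, jel 𝒮L jL (V x) (c x • g x) = rs 𝒮L (hVW x) ((u.app U).hom y) := fun x => by
    rw [hc x, pow_one]; exact jL.app_smul (c x) (g x)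
  obtain ⟨s, hs, -⟩ := res_glue V hVW (fun w hw => Opens.mem_iSup.2 ⟨⟨w, hw⟩, hxV ⟨w, hw⟩⟩)
    (fun x => c x • g x) fun a b => jel_inj hjL hL (by rw [← rs_jel, ← rs_jel, hloc, hloc, rs_rs, rs_rs])
  refine ⟨s, eq_of_locally V hVW (fun w hw => Opens.mem_iSup.2 ⟨⟨w, hw⟩, hxV ⟨w, hw⟩⟩) fun x => ?_⟩
  rw [rs_jel, hs x, hloc x]

include hjL hL in
/-- The linear system of the degree one part. -/
theorem exists_linData : ∃ σ : LinData q 𝒜.toModule L, ∀ (U : Y.Opens) (hU : IsAffineOpen U) (x : Γ(𝒜.toModule, U)),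
    jel 𝒮L jL (q ⁻¹ᵁ U) (σ.app U x) = (u.app U).hom (one₁ 𝒜 U hU x) := by
  have hex : ∀ (U : Y.Opens) (hU : IsAffineOpen U) (x : Γ(𝒜.toModule, U)),
      ∃ s : Γ(L, q ⁻¹ᵁ U), jel 𝒮L jL (q ⁻¹ᵁ U) s = (u.app U).hom (one₁ 𝒜 U hU x) :=
    fun U hU x => exists_section hjL hL u (hU := hU) (SetLike.coe_mem _)
  choose f hf using hex
  obtain ⟨φ, hφ⟩ := Groth.LocFree.exists_hom_of_affine (L := 𝒜.toModule)
    (M := (Scheme.Modules.pushforward q).obj L)
    (fun U hU =>
      { toFun := f U hU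
        map_add' := fun a b => jel_inj hjL hL (by
          refine (hf U hU (a + b)).trans (Eq.trans ?_ (map_add (jL.app (q ⁻¹ᵁ U)).hom _ _).symm)
          refine Eq.trans ?_ (congrArg₂ (· + ·) (hf U hU a) (hf U hU b)).symm
          rw [← map_add]
          congr 1
          simp only [one₁]
          rw [show toB 𝒜.toQCAlg (a + b) = toB 𝒜.toQCAlg a + toB 𝒜.toQCAlg b from rfl, DirectSum.decompose_add,
            DFinsupp.add_apply]
          rfl)
        map_smul' := fun r a => jel_inj hjL hL (by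
          refine (hf U hU (r • a)).trans (Eq.trans ?_ (jL.app_smul (q.app U r) (f U hU a)).symm)
          refine Eq.trans ?_ (congrArg (sc 𝒮L (q ⁻¹ᵁ U) (q.app U r) * ·) (hf U hU a)).symm
          rw [show one₁ 𝒜 U hU (r • a) = (𝒜.str.app (op U)).hom r * one₁ 𝒜 U hU a from by
            refine Eq.trans ?_ (DirectSum.coe_decompose_mul_add_of_left_mem (𝒜.deg U hU) (j := 1)
              (𝒜.str_mem U hU r) (b := toB 𝒜.toQCAlg a))
            rw [Nat.zero_add]
            rfl, map_mul]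
          exact congrArg (· * _) congr(($(u.toQHom.str_app U)).hom r)) })
    (fun U V hU hV h x => by
      refine jel_inj hjL hL (((PicAux.app_res jL (q.preimage_mono h) (f U hU x)).trans ?_).trans
        (hf V hV (res 𝒜.toModule h x)).symm)
      refine (congrArg (rs 𝒮L (q.preimage_mono h)) (hf U hU x)).trans ?_
      refine congr(($(u.toQHom.naturality h)).hom (one₁ 𝒜 U hU x)).trans ?_
      exact congrArg (u.app V).hom (GradedRingHom.map_directSumDecompose (𝒜 := 𝒜.deg U hU) (ℬ := 𝒜.deg V hV)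
        (𝒜.res hU hV h) (x := toB 𝒜.toQCAlg x) (i := 1)))
  refine ⟨{ app := fun U => AddMonoidHom.mk' (fun x => (φ.app U x : Γ(L, q ⁻¹ᵁ U))) fun a b => map_add _ a b
            app_smul := fun U r x => φ.app_smul r x
            app_res := fun U V h x => (PicAux.app_res φ h x).symm }, fun U hU x => ?_⟩
  exact (congrArg (jel 𝒮L jL (q ⁻¹ᵁ U)) (hφ U hU x)).trans (hf U hU x)

variable {U : Y.Opens} {hU : IsAffineOpen U} {f : 𝒜.presheaf.obj (op U)} (hf : f ∈ 𝒜.deg U hU 1)

include hjL hL hPL hP hr in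
theorem imm_phi [IsImmersion r] (G : X.Opens) (hG : G = nvU u U 1 f) (T : Subring Γ(X, G))
    (hT : ∀ x, resX X hG.le (phi hjL hL hPL hP u hr one_pos hf x) ∈ T) : Imm G T := by
  subst hG
  have := isOpenImmersion_π hjL hL hPL u
  let N := nvU u U 1 f
  have hrange : Set.range N.ι.base ⊆ Set.range (π u pL chartL).base := by
    rintro _ ⟨x, rfl⟩
    exact nvU_le_range hjL hL hPL u one_pos hf x.2
  let k₀ := IsOpenImmersion.lift (π u pL chartL) N.ι hrange
  have hk₀ : k₀ ≫ π u pL chartL = N.ι := IsOpenImmersion.lift_fac _ _ _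
  have : IsOpenImmersion (k₀ ≫ π u pL chartL) := hk₀ ▸ inferInstance
  have : IsOpenImmersion k₀ := IsOpenImmersion.of_comp k₀ (π u pL chartL)
  let D := dp chart U hU f
  have hmem : Set.range (k₀ ≫ r).base ⊆ Set.range D.ι.base := by
    rintro _ ⟨x, rfl⟩
    rw [Scheme.Opens.range_ι]
    refine (mem_dp_iff hjL hL hPL hP u hr one_pos hf (k₀.base x)).2 ?_
    change (k₀ ≫ π u pL chartL).base x ∈ N
    rw [hk₀]; exact x.2
  let k := IsOpenImmersion.lift D.ι (k₀ ≫ r) hmem
  have hk : k ≫ D.ι = k₀ ≫ r := IsOpenImmersion.lift_fac _ _ _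
  have : IsImmersion (k ≫ D.ι) := hk ▸ inferInstance
  have : IsImmersion k := IsImmersion.of_comp k D.ι
  refine ⟨D, isAffineOpen_dp one_pos hf, k, this, fun a => ?_⟩
  obtain ⟨x, hx⟩ := (ConcreteCategory.bijective_of_isIso
    ((coordF chart U hU one_pos f hf).hom ≫ D.topIso.inv)).2 a
  refine (congrArg (· ∈ T) ?_).mpr (hT x)
  rw [← hx, CommRingCat.comp_apply]
  change N.topIso.hom (k.appTop (D.topIso.inv _)) = _
  let F := (coordF chart U hU one_pos f hf).hom x
  have h1 : ∀ (m : (N : Scheme.{u}) ⟶ P) (_ : m = k₀ ≫ r) (hm : ⊤ ≤ m ⁻¹ᵁ D),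
      m.appLE D ⊤ hm F = N.ι.appLE N ⊤ (by simp) (phi hjL hL hPL hP u hr one_pos hf x) := by
    rintro m rfl hm
    have hl : ⊤ ≤ k₀ ⁻¹ᵁ (π u pL chartL ⁻¹ᵁ N) := by
      rw [← Scheme.Hom.comp_preimage, hk₀]; simp
    rw [← Scheme.Hom.appLE_comp_appLE k₀ r D (π u pL chartL ⁻¹ᵁ N) ⊤
      (preimage_dp hjL hL hPL hP u hr one_pos hf).ge hl, CommRingCat.comp_apply,
      ← app_phi hjL hL hPL hP u hr one_pos hf, Scheme.Hom.app_eq_appLE, ← CommRingCat.comp_apply,
      Scheme.Hom.appLE_comp_appLE]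
    have key : ∀ (m : (N : Scheme.{u}) ⟶ X) (_ : m = N.ι) (hm : ⊤ ≤ m ⁻¹ᵁ N),
        m.appLE N ⊤ hm (phi hjL hL hPL hP u hr one_pos hf x) =
          N.ι.appLE N ⊤ (by simp) (phi hjL hL hPL hP u hr one_pos hf x) := by
      rintro m rfl hm; rfl
    exact key _ hk₀ _
  have h2 := h1 (k ≫ D.ι) hk (fun w _ => (k.base w).2)
  rw [← Scheme.Hom.appLE_comp_appLE k D.ι D ⊤ ⊤ (by simp) le_top, CommRingCat.comp_apply] at h2
  rw [Scheme.Opens.ι_appLE, Scheme.Opens.ι_appLE] at h2
  have h3 : k.appTop (D.topIso.inv F) = N.topIso.inv (phi hjL hL hPL hP u hr one_pos hf x) := by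
    have e0 : ∀ h : (⊤ : (N : Scheme.{u}).Opens) ≤ k ⁻¹ᵁ ⊤, k.appLE ⊤ ⊤ h = k.appTop :=
      fun h => Scheme.Hom.appLE_eq_app k
    rw [e0] at h2
    exact h2
  rw [h3, ← CommRingCat.comp_apply, Iso.inv_hom_id, CommRingCat.id_apply]
  exact congr(($(X.presheaf.map_id (op N))).hom _).symm

end Groth.RLpsi
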