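import Groth.Agent.RelVA.QBridge

/-!
# Degree `d` sections of `⊕ Lⁿ` and the opens where they do not vanish
-/

universe u

open CategoryTheory CategoryTheory.Limits AlgebraicGeometry Opposite TopologicalSpace
open scoped HomogeneousIdeal

set_option backward.isDefEq.respectTransparency.types false

noncomputable section

namespace Groth.RLpsi

open Groth.PicAux Groth.RelTw

variable {X PL : Scheme.{u}} {L : X.Modules} [L.IsQuasicoherent]
  {𝒮L : RelProj.QCGrAlg X} {jL : L ⟶ 𝒮L.toModule} (hjL : RelProj.IsGrSymAlg L 𝒮L jL)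
  (hL : PicF.IsInvertible L)

/-- restriction of the algebra -/
abbrev rs (𝒮 : RelProj.QCGrAlg X) {W W' : X.Opens} (h : W' ≤ W) :
    𝒮.presheaf.obj (op W) →+* 𝒮.presheaf.obj (op W') :=
  (𝒮.presheaf.map (homOfLE h).op).hom

/-- structure map of the algebra -/
abbrev sc (𝒮 : RelProj.QCGrAlg X) (W : X.Opens) : Γ(X, W) →+* 𝒮.presheaf.obj (op W) :=
  (𝒮.str.app (op W)).hom

omit [L.IsQuasicoherent] in
theorem rs_rs {W W' W'' : X.Opens} (h : W' ≤ W) (h' : W'' ≤ W') (x : 𝒮L.presheaf.obj (op W)) :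
    rs 𝒮L h' (rs 𝒮L h x) = rs 𝒮L (h'.trans h) x :=
  congr(($(𝒮L.presheaf.map_comp (homOfLE h).op (homOfLE h').op)).hom x).symm

omit [L.IsQuasicoherent] in
theorem rs_self {W : X.Opens} (h : W ≤ W) (x : 𝒮L.presheaf.obj (op W)) : rs 𝒮L h x = x :=
  congr(($(𝒮L.presheaf.map_id (op W))).hom x)

omit [L.IsQuasicoherent] in
theorem rs_sc {W W' : X.Opens} (h : W' ≤ W) (a : Γ(X, W)) :
    rs 𝒮L h (sc 𝒮L W a) = sc 𝒮L W' (resX X h a) :=
  congr(($(𝒮L.str.naturality (homOfLE h).op)).hom a).symm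

omit [L.IsQuasicoherent] in
theorem rs_jel {W W' : X.Opens} (h : W' ≤ W) (g : Γ(L, W)) :
    rs 𝒮L h (jel 𝒮L jL W g) = jel 𝒮L jL W' (res L h g) :=
  (PicAux.app_res jL h g).symm

omit [L.IsQuasicoherent] in
theorem eq_of_locally {W : X.Opens} {ι : Type*} (D : ι → X.Opens) (hle : ∀ i, D i ≤ W) (hcov : W ≤ ⨆ i, D i)
    {x y : 𝒮L.presheaf.obj (op W)} (h : ∀ i, rs 𝒮L (hle i) x = rs 𝒮L (hle i) y) : x = y :=
  TopCat.Sheaf.eq_of_locally_eq' (⟨𝒮L.presheaf, 𝒮L.isSheaf⟩ : TopCat.Sheaf CommRingCat.{u} X) D W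
    (fun i => homOfLE (hle i)) hcov x y h

include hL in
omit [L.IsQuasicoherent] in
/-- Small affine opens on which `L` is trivial. -/
theorem exists_triv {W : X.Opens} {x : X} (hx : x ∈ W) :
    ∃ (V : X.Opens) (_ : IsAffineOpen V) (g : Γ(L, V)), x ∈ V ∧ V ≤ W ∧ Gen L V g := by
  obtain ⟨U, hU, g, hxU, hg⟩ := RelTw.exists_affine_gen hL x
  obtain ⟨V, hV, hxV, hle⟩ := exists_isAffineOpen_mem_and_subset (x := x) (U := U ⊓ W) ⟨hxU, hx⟩
  have h1 : V ≤ U := fun y hy => (hle hy).1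
  exact ⟨V, hV, _, hxV, fun y hy => (hle hy).2, hg.res h1⟩

variable {V : X.Opens} (hV : IsAffineOpen V) {g : Γ(L, V)} (hg : Gen L V g)

include hjL in
theorem sc_mul_pow_mem (a : Γ(X, V)) (n : ℕ) : sc 𝒮L V a * jel 𝒮L jL V g ^ n ∈ 𝒮L.deg V hV n := by
  have h1 := SetLike.pow_mem_graded n (show jel 𝒮L jL V g ∈ 𝒮L.deg V hV 1 from hjL.2 V hV g)
  have h2 := SetLike.mul_mem_graded (A := 𝒮L.deg V hV) (𝒮L.str_mem V hV a) h1
  rwa [Nat.zero_add, smul_eq_mul, mul_one] at h2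

include hjL hg in
theorem exists_coeff {n : ℕ} {x : 𝒮L.presheaf.obj (op V)} (hx : x ∈ 𝒮L.deg V hV n) :
    ∃ a : Γ(X, V), x = sc 𝒮L V a * jel 𝒮L jL V g ^ n :=
  exists_eq_mul_pow hjL hg hx

include hjL hg hV in
theorem coeff_inj {n : ℕ} {a b : Γ(X, V)}
    (h : sc 𝒮L V a * jel 𝒮L jL V g ^ n = sc 𝒮L V b * jel 𝒮L jL V g ^ n) : a = b :=
  sub_eq_zero.1 (eq_zero_of_mul_pow hjL (hU := hV) hg (k := n) (by
    rw [map_sub, sub_mul, sub_eq_zero]; exact h))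

omit [L.IsQuasicoherent] hg in
theorem rs_sc_mul_pow {V' : X.Opens} (h : V' ≤ V) (a : Γ(X, V)) (n : ℕ) :
    rs 𝒮L h (sc 𝒮L V a * jel 𝒮L jL V g ^ n) = sc 𝒮L V' (resX X h a) * jel 𝒮L jL V' (res L h g) ^ n := by
  rw [map_mul, map_pow, rs_sc, rs_jel]

/-- `f` generates the degree `d` part over the affine open `V`. -/
def GenDeg (𝒮 : RelProj.QCGrAlg X) (V : X.Opens) (hV : IsAffineOpen V) (d : ℕ) (f : 𝒮.presheaf.obj (op V)) : Prop :=
  (𝒮.deg V hV d : Set (𝒮.presheaf.obj (op V))) ⊆ (Ideal.span {f} : Set (𝒮.presheaf.obj (op V)))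

/-- The open where the section `f` of degree `d` does not vanish. -/
def nv (𝒮 : RelProj.QCGrAlg X) (W : X.Opens) (f : 𝒮.presheaf.obj (op W)) (d : ℕ) : X.Opens :=
  ⨆ V : {V : X.affineOpens // ∃ h : V.1 ≤ W, GenDeg 𝒮 V.1 V.2 d (rs 𝒮 h f)}, V.1.1

omit [L.IsQuasicoherent] in
theorem nv_le {W : X.Opens} (f : 𝒮L.presheaf.obj (op W)) (d : ℕ) : nv 𝒮L W f d ≤ W :=
  iSup_le fun V => V.2.1

omit [L.IsQuasicoherent] in
theorem nv_top_eq {W : X.Opens} (f : 𝒮L.presheaf.obj (op W)) (d : ℕ) (hW : ∀ V : X.Opens, V ≤ W) :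
    nv 𝒮L W f d = ⨆ V : {V : X.affineOpens // GenDeg 𝒮L V.1 V.2 d (rs 𝒮L (hW V.1) f)}, V.1.1 :=
  le_antisymm (iSup_le fun V => le_iSup_of_le ⟨V.1, by obtain ⟨h, hh⟩ := V.2; exact hh⟩ le_rfl)
    (iSup_le fun V => le_iSup_of_le ⟨V.1, hW V.1.1, V.2⟩ le_rfl)

include hjL hg in
theorem genDeg_of_isUnit {d : ℕ} {c : Γ(X, V)} (hc : IsUnit c) {f : 𝒮L.presheaf.obj (op V)}
    (hf : f = sc 𝒮L V c * jel 𝒮L jL V g ^ d) : GenDeg 𝒮L V hV d f := by
  intro x hx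
  obtain ⟨a, rfl⟩ := exists_coeff hjL hV hg hx
  rw [SetLike.mem_coe, Ideal.mem_span_singleton']
  obtain ⟨e, he⟩ := hc.exists_left_inv
  refine ⟨sc 𝒮L V (a * e), ?_⟩
  rw [hf, ← mul_assoc, ← map_mul, mul_assoc, he, mul_one]

include hjL hg hV in
theorem mem_nv_iff {W : X.Opens} {f : 𝒮L.presheaf.obj (op W)} {d : ℕ} (hVW : V ≤ W) {c : Γ(X, V)}
    (hc : rs 𝒮L hVW f = sc 𝒮L V c * jel 𝒮L jL V g ^ d) {x : X} (hx : x ∈ V) :
    x ∈ nv 𝒮L W f d ↔ x ∈ X.basicOpen c := by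
  classical
  constructor
  · intro hxN
    obtain ⟨⟨⟨V', hV'⟩, hV'W, hgd⟩, hxV'⟩ := Opens.mem_iSup.1 hxN
    obtain ⟨a, haV, hxD⟩ := hV'.exists_basicOpen_le (V := V) ⟨x, hx⟩ hxV'
    have hD := hV'.basicOpen a
    let gD : Γ(L, X.basicOpen a) := res L haV g
    have hgD : Gen L (X.basicOpen a) gD := hg.res haV
    have hD' : X.basicOpen a ≤ V' := X.basicOpen_le a
    let _ := (𝒮L.presheaf.map (homOfLE hD').op).hom.toAlgebra
    have hloc := 𝒮L.isQC V' hV' a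
    obtain ⟨m, y, hy⟩ := IsLocalization.Away.surj (sc 𝒮L V' a) (jel 𝒮L jL (X.basicOpen a) gD ^ d)
    change jel 𝒮L jL (X.basicOpen a) gD ^ d * rs 𝒮L hD' (sc 𝒮L V' a) ^ m = rs 𝒮L hD' y at hy
    set c' := resX X haV c
    have hfD : rs 𝒮L hD' (rs 𝒮L hV'W f) = sc 𝒮L (X.basicOpen a) c' * jel 𝒮L jL (X.basicOpen a) gD ^ d := by
      rw [rs_rs, show rs 𝒮L (hD'.trans hV'W) f = rs 𝒮L haV (rs 𝒮L hVW f) from (rs_rs hVW haV f).symm, hc]
      exact rs_sc_mul_pow haV c d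
    have hmem : jel 𝒮L jL (X.basicOpen a) gD ^ d * rs 𝒮L hD' (sc 𝒮L V' a) ^ m ∈ 𝒮L.deg (X.basicOpen a) hD d := by
      rw [rs_sc, ← map_pow, mul_comm]
      exact sc_mul_pow_mem hjL hD _ d
    have hyd : rs 𝒮L hD' (DirectSum.decompose (𝒮L.deg V' hV') y d : 𝒮L.presheaf.obj (op V')) =
        jel 𝒮L jL (X.basicOpen a) gD ^ d * rs 𝒮L hD' (sc 𝒮L V' a) ^ m := by
      rw [show rs 𝒮L hD' (DirectSum.decompose (𝒮L.deg V' hV') y d : 𝒮L.presheaf.obj (op V')) =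
          (DirectSum.decompose (𝒮L.deg (X.basicOpen a) hD) (rs 𝒮L hD' y) d : 𝒮L.presheaf.obj (op (X.basicOpen a)))
        from GradedRingHom.map_directSumDecompose (𝒜 := 𝒮L.deg V' hV') (ℬ := 𝒮L.deg (X.basicOpen a) hD)
          (𝒮L.res hV' hD hD') (x := y) (i := d), ← hy, DirectSum.decompose_of_mem_same _ hmem]
    obtain ⟨e, he⟩ := Ideal.mem_span_singleton'.1
      (hgd (SetLike.coe_mem (DirectSum.decompose (𝒮L.deg V' hV') y d)))
    set e' := rs 𝒮L hD' e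
    have hee : e' * (sc 𝒮L (X.basicOpen a) c' * jel 𝒮L jL (X.basicOpen a) gD ^ d) =
        sc 𝒮L (X.basicOpen a) (resX X hD' a ^ m) * jel 𝒮L jL (X.basicOpen a) gD ^ d := by
      rw [← hfD, ← map_mul, he, hyd, map_pow, rs_sc, mul_comm]
    obtain ⟨e₀, he₀⟩ := exists_coeff hjL hD hgD (SetLike.coe_mem
      (DirectSum.decompose (𝒮L.deg (X.basicOpen a) hD) e' 0))
    rw [pow_zero, mul_one] at he₀
    have h3 : sc 𝒮L (X.basicOpen a) (e₀ * c') * jel 𝒮L jL (X.basicOpen a) gD ^ d =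
        sc 𝒮L (X.basicOpen a) (resX X hD' a ^ m) * jel 𝒮L jL (X.basicOpen a) gD ^ d := by
      have h4 : (DirectSum.decompose (𝒮L.deg (X.basicOpen a) hD)
          (e' * (sc 𝒮L (X.basicOpen a) c' * jel 𝒮L jL (X.basicOpen a) gD ^ d)) d :
            𝒮L.presheaf.obj (op (X.basicOpen a))) =
          sc 𝒮L (X.basicOpen a) e₀ * (sc 𝒮L (X.basicOpen a) c' * jel 𝒮L jL (X.basicOpen a) gD ^ d) := by
        have := DirectSum.coe_decompose_mul_add_of_right_mem (𝒮L.deg (X.basicOpen a) hD) (i := 0) (a := e')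
          (sc_mul_pow_mem hjL hD (g := gD) c' d)
        rw [Nat.zero_add] at this
        rw [this, he₀]
      rw [hee, DirectSum.decompose_of_mem_same _ (sc_mul_pow_mem hjL hD _ d)] at h4
      rw [map_mul, mul_assoc, ← h4]
    have hu : IsUnit (e₀ * c') := by
      rw [coeff_inj hjL hD hgD h3]
      exact (RingedSpace.isUnit_res_basicOpen X.toRingedSpace a).pow m
    have h5 : X.basicOpen c' = X.basicOpen a := X.basicOpen_of_isUnit (isUnit_of_mul_isUnit_right hu)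
    rw [show c' = resX X haV c from rfl] at h5
    have h6 : X.basicOpen (resX X haV c) = X.basicOpen a ⊓ X.basicOpen c := X.basicOpen_res c (homOfLE haV).op
    exact ((h6.symm.trans h5).ge hxD).2
  · intro hxc
    have hle : X.basicOpen c ≤ V := X.basicOpen_le c
    refine Opens.mem_iSup.2 ⟨⟨⟨X.basicOpen c, IsAffineOpen.basicOpen hV c⟩, hle.trans hVW, ?_⟩, hxc⟩
    refine genDeg_of_isUnit hjL (IsAffineOpen.basicOpen hV c) (hg.res hle) (c := resX X hle c)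
      (RingedSpace.isUnit_res_basicOpen X.toRingedSpace c) ?_
    rw [← rs_rs hVW hle, hc, rs_sc_mul_pow]

include hjL hg in
theorem exists_unit_coeff {W : X.Opens} {f : 𝒮L.presheaf.obj (op W)} {d : ℕ} (hN : V ≤ nv 𝒮L W f d)
    (hf : rs 𝒮L (hN.trans (nv_le f d)) f ∈ 𝒮L.deg V hV d) :
    ∃ c : Γ(X, V), IsUnit c ∧ rs 𝒮L (hN.trans (nv_le f d)) f = sc 𝒮L V c * jel 𝒮L jL V g ^ d := by
  obtain ⟨c, hc⟩ := exists_coeff hjL hV hg hf
  refine ⟨c, Ideal.span_singleton_eq_top.1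
    (((show IsAffineOpen V from hV).iSup_basicOpen_eq_self_iff (s := {c})).1 (le_antisymm ?_ ?_)), hc⟩
  · exact iSup_le fun i => X.basicOpen_le _
  · exact fun x hx => Opens.mem_iSup.2 ⟨⟨c, rfl⟩, (mem_nv_iff hjL hV hg _ hc hx).1 (hN hx)⟩

omit hg in
include hjL hL in
/-- Multiplication by a power of the section is injective on functions where it does not vanish. -/
theorem eq_of_sc_mul_eq {W : X.Opens} {f : 𝒮L.presheaf.obj (op W)} {d : ℕ}
    (hf : ∀ (V : X.Opens) (hV : IsAffineOpen V) (h : V ≤ W), rs 𝒮L h f ∈ 𝒮L.deg V hV d)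
    {T : X.Opens} (hT : T ≤ nv 𝒮L W f d) (k : ℕ) {a b : Γ(X, T)}
    (h : sc 𝒮L T a * rs 𝒮L (hT.trans (nv_le f d)) f ^ k = sc 𝒮L T b * rs 𝒮L (hT.trans (nv_le f d)) f ^ k) :
    a = b := by
  choose V hV g hx hVle hg using fun x : T => exists_triv (L := L) hL x.2
  refine TopCat.Sheaf.eq_of_locally_eq' X.sheaf V T (fun x => homOfLE (hVle x))
    (fun y hy => Opens.mem_iSup.2 ⟨⟨y, hy⟩, hx ⟨y, hy⟩⟩) a b fun x => ?_
  obtain ⟨c, hc, hfc⟩ := exists_unit_coeff hjL (hV x) (hg x) ((hVle x).trans hT) (hf _ (hV x) _)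
  have h1 := congrArg (rs 𝒮L (hVle x)) h
  simp only [map_mul, map_pow, rs_sc, rs_rs] at h1
  rw [hfc, mul_pow, ← map_pow, ← mul_assoc, ← mul_assoc, ← map_mul, ← map_mul, ← pow_mul] at h1
  exact (hc.pow k).mul_left_inj.1 (coeff_inj hjL (hV x) (hg x) h1)

variable {pL : PL ⟶ X}
  {chartL : ∀ (U : X.Opens) (hU : IsAffineOpen U), (((pL ⁻¹ᵁ U : PL.Opens) : Scheme.{u}) ≅ Proj (𝒮L.deg U hU))}
  (hPL : RelProj.IsRelProj 𝒮L pL chartL)

include hjL hg hPL in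
/-- In a trivializing chart `D₊(c gᵈ)` lies over `D(c)`. -/
theorem mem_basicOpen_coeff_iff {d : ℕ} (hd : 0 < d) (c : Γ(X, V)) (y : Proj (𝒮L.deg V hV)) :
    y ∈ Proj.basicOpen (𝒮L.deg V hV) (sc 𝒮L V c * jel 𝒮L jL V g ^ d) ↔
      pL.base ((RelProj.emb pL chartL V hV).base y) ∈ X.basicOpen c := by
  have hgm : jel 𝒮L jL V g ∈ 𝒮L.deg V hV 1 := hjL.2 V hV g
  obtain ⟨x, rfl⟩ : ∃ x, (Proj.awayι (𝒮L.deg V hV) (jel 𝒮L jL V g) hgm one_pos).base x = y :=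
    (SetLike.ext_iff.mp (Proj.opensRange_awayι (𝒮L.deg V hV) (jel 𝒮L jL V g) hgm one_pos) y).mpr
      (by rw [basicOpen_eq_top hjL hg]; trivial)
  change x ∈ Proj.awayι (𝒮L.deg V hV) (jel 𝒮L jL V g) hgm one_pos ⁻¹ᵁ Proj.basicOpen _ _ ↔
    x ∈ (Proj.awayι (𝒮L.deg V hV) (jel 𝒮L jL V g) hgm one_pos ≫ RelProj.emb pL chartL V hV ≫ pL) ⁻¹ᵁ X.basicOpen c
  rw [Groth.Ega2P2.awayι_emb_p hPL V hV (jel 𝒮L jL V g) hgm one_pos, Scheme.Hom.comp_preimage,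
    hV.fromSpec_preimage_basicOpen]
  refine (SetLike.ext_iff.mp (Proj.awayι_preimage_basicOpen (𝒮L.deg V hV) hgm one_pos
    (sc_mul_pow_mem hjL hV (g := g) c d) hd) x).trans ?_
  change HomogeneousLocalization.Away.isLocalizationElem hgm (sc_mul_pow_mem hjL hV (g := g) c d) ∉ x.asIdeal ↔ _ ∉ x.asIdeal
  have key : HomogeneousLocalization.Away.isLocalizationElem hgm (sc_mul_pow_mem hjL hV (g := g) c d) =
      HomogeneousLocalization.fromZeroRingHom (𝒮L.deg V hV) (Submonoid.powers (jel 𝒮L jL V g))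
        ((𝒮L.strZero V hV).hom c) := by
    refine HomogeneousLocalization.val_injective _ ?_
    simp only [HomogeneousLocalization.Away.val_mk]
    change Localization.mk _ _ = Localization.mk (sc 𝒮L V c) 1
    rw [Localization.mk_eq_mk_iff, Localization.r_iff_exists]
    exact ⟨1, by simp [pow_one]; ring⟩
  exact not_congr (iff_of_eq (congrArg (· ∈ x.asIdeal) key))

end Groth.RLpsi
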