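import Groth.Agent.RLpsi.Sections
import Groth.Agent.RLpsi.Dominant
import Groth.Agent.Ega2Proj.RelAmple

/-!
# The morphism to the `Proj` of the section ring
-/

universe u

open CategoryTheory CategoryTheory.Limits AlgebraicGeometry Opposite TopologicalSpace
open scoped HomogeneousIdeal

set_option backward.isDefEq.respectTransparency.types false

noncomputable section

namespace Groth.RLpsi

open Groth.PicAux Groth.RelTw Groth.PropsBasic.Ample

variable {X Y P PL : Scheme.{u}} {q : X ⟶ Y} {L : X.Modules} [L.IsQuasicoherent]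
  {𝒮L : RelProj.QCGrAlg X} {jL : L ⟶ 𝒮L.toModule} (hjL : RelProj.IsGrSymAlg L 𝒮L jL)
  (hL : PicF.IsInvertible L)
  {pL : PL ⟶ X}
  {chartL : ∀ (U : X.Opens) (hU : IsAffineOpen U), (((pL ⁻¹ᵁ U : PL.Opens) : Scheme.{u}) ≅ Proj (𝒮L.deg U hU))}
  (hPL : RelProj.IsRelProj 𝒮L pL chartL)
  {𝒜 : RelProj.QCGrAlg Y} {p : P ⟶ Y}
  {chart : ∀ (U : Y.Opens) (hU : IsAffineOpen U), (((p ⁻¹ᵁ U : P.Opens) : Scheme.{u}) ≅ Proj (𝒜.deg U hU))}
  (hP : RelProj.IsRelProj 𝒜 p chart)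
  (u : RelProj.QGrHom q 𝒜 𝒮L)
  {r : ((RelProj.domQ u pL chartL : PL.Opens) : Scheme.{u}) ⟶ P}
  (hr : RelProj.IsProjQMapOn u p chart pL chartL (RelProj.domQ u pL chartL) r)

section

variable {U : Y.Opens} {hU : IsAffineOpen U} (hinj : Function.Injective (u.app U).hom)

include hL hinj in
/-- An element whose image is locally of degree `e` is of degree `e`. -/
theorem mem_deg_of_injective {e : ℕ} {s : 𝒜.presheaf.obj (op U)}
    (h : ∀ (V : X.Opens) (hV : IsAffineOpen V) (hVU : V ≤ q ⁻¹ᵁ U), ∀ {g : Γ(L, V)}, Gen L V g →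
      rs 𝒮L hVU ((u.app U).hom s) ∈ 𝒮L.deg V hV e) :
    s ∈ 𝒜.deg U hU e := by
  classical
  choose V hV g hxV hVU hg using fun x : (q ⁻¹ᵁ U : X.Opens) => exists_triv (L := L) hL x.2
  suffices hs : s = (DirectSum.decompose (𝒜.deg U hU) s e : 𝒜.presheaf.obj (op U)) from
    hs ▸ SetLike.coe_mem _
  refine hinj (eq_of_locally V hVU (fun x hx => Opens.mem_iSup.2 ⟨⟨x, hx⟩, hxV ⟨x, hx⟩⟩) fun x => ?_)
  exact ((GradedRingHom.map_directSumDecompose (𝒜 := 𝒜.deg U hU) (ℬ := 𝒮L.deg (V x) (hV x))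
    (u.gradedAt U hU (V x) (hV x) (hVU x)) (x := s) (i := e)).trans
      (DirectSum.decompose_of_mem_same _ (h (V x) (hV x) (hVU x) (hg x)))).symm

variable {d : ℕ} (hd : 0 < d) {f : 𝒜.presheaf.obj (op U)} (hf : f ∈ 𝒜.deg U hU d)
  (hW : IsCompact ((q ⁻¹ᵁ U : X.Opens) : Set X))

include hjL hL hf hW in
theorem isCompact_nvU : IsCompact ((nvU u U d f : X.Opens) : Set X) := by
  have h := isCompact_nv_inter hjL hL (rs_mem_deg u hf) hW le_rfl
  rwa [inf_eq_left.2 (nv_le ((u.app U).hom f) d)] at h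

include hjL hL hinj hf hW in
theorem exists_pow_mul_eq_zero_of_injective {e : ℕ} {s : 𝒜.presheaf.obj (op U)} (hs : s ∈ 𝒜.deg U hU e)
    (h0 : rs 𝒮L (nv_le _ _) ((u.app U).hom s) = (0 : 𝒮L.presheaf.obj (op (nvU u U d f)))) :
    ∃ k, f ^ k * s = 0 := by
  obtain ⟨k, hk⟩ := exists_pow_mul_eq_zero hjL hL (rs_mem_deg u hf) hW le_rfl (rs_mem_deg u hs) (by
    rw [← rs_rs (nv_le ((u.app U).hom f) d) (inf_le_left : nvU u U d f ⊓ q ⁻¹ᵁ U ≤ nvU u U d f), h0, map_zero])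
  refine ⟨k, hinj ?_⟩
  rw [map_mul, map_pow, map_zero, ← hk, rs_self]

include hjL hL hPL hP hr hinj hW in
theorem injective_phi_of_injective : Function.Injective (phi hjL hL hPL hP u hr hd hf) := by
  refine (injective_phi_iff hjL hL hPL hP u hr hd hf).2 fun m _ s hs h0 => ?_
  obtain ⟨k, hk⟩ := exists_pow_mul_eq_zero_of_injective hjL hL u hinj hf hW hs h0
  exact ⟨k + 1, k.succ_pos, by rw [pow_succ', mul_assoc, hk, mul_zero]⟩

include hjL hL hPL hP hr hW in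
theorem surjective_phi_of_bijective (hb : Function.Bijective (u.app U).hom)
    (hWs : IsQuasiSeparated ((q ⁻¹ᵁ U : X.Opens) : Set X)) :
    Function.Surjective (phi hjL hL hPL hP u hr hd hf) := by
  refine (surjective_phi_iff hjL hL hPL hP u hr hd hf).2 fun t => ?_
  obtain ⟨k, y, hy, he⟩ := exists_pow_mul_extend hjL hL (rs_mem_deg u hf) hW hWs t
  obtain ⟨s, rfl⟩ := hb.2 y
  have hs : s ∈ 𝒜.deg U hU (d * k) := mem_deg_of_injective hL u hb.1 hy
  refine ⟨k + 1, k.succ_pos, s * f, ?_, ?_⟩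
  · have h := SetLike.mul_mem_graded hs hf
    rwa [mul_comm d k, ← Nat.succ_mul] at h
  · rw [pow_succ, ← mul_assoc, ← he, map_mul, map_mul]

include hjL hL hd hinj hf hW in
theorem nonempty_nvU_of_injective (hn : ¬ IsNilpotent f) : (nvU u U d f : Set X).Nonempty := by
  by_contra hne
  rw [Set.not_nonempty_iff_eq_empty] at hne
  obtain ⟨k, hk⟩ := exists_pow_mul_eq_zero_of_injective hjL hL u hinj hf hW
    (SetLike.one_mem_graded (𝒜.deg U hU)) (eq_of_locally (fun e : Empty => e.elim) (fun e => e.elim)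
      (fun x hx => (Set.eq_empty_iff_forall_notMem.1 hne x hx).elim) fun e => e.elim)
  exact hn ⟨k, by rwa [mul_one] at hk⟩

/-- Ampleness gives affine loci of sections of positive degree. -/
theorem exists_affine_nvU (hjL : RelProj.IsGrSymAlg L 𝒮L jL) (hL : PicF.IsInvertible L)
    (u : RelProj.QGrHom q 𝒜 𝒮L) (hb : Function.Bijective (u.app U).hom)
    (hA : CohB1.IsAmple ((Scheme.Modules.pullback (q ⁻¹ᵁ U).ι).obj L)) {x : X} (hx : x ∈ q ⁻¹ᵁ U) :
    ∃ (d : ℕ) (f : 𝒜.presheaf.obj (op U)), 0 < d ∧ f ∈ 𝒜.deg U hU d ∧ x ∈ nvU u U d f ∧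
      IsAffineOpen (nvU u U d f) := by
  obtain ⟨n, s, hxs, haff⟩ := hA.2.2 ⟨x, hx⟩
  rw [genLocus_eq_gloc] at hxs haff
  obtain ⟨y, hy, hgy⟩ := exists_elt_of_powSection hjL hL (q ⁻¹ᵁ U) (gsec s)
  obtain ⟨f, rfl⟩ := hb.2 y
  rw [hgy] at hxs haff
  refine ⟨n + 1, f, n.succ_pos, mem_deg_of_injective hL u hb.1 hy, hxs, ?_⟩
  have h := haff.image_of_isOpenImmersion (q ⁻¹ᵁ U).ι
  rwa [Scheme.Hom.image_preimage_eq_opensRange_inf, Scheme.Opens.opensRange_ι,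
    inf_eq_right.2 (nv_le _ _)] at h

end

section cover

variable {ι : Type*} (Us : ι → Y.Opens) (hUs : ∀ i, IsAffineOpen (Us i)) (hcov : ∀ y : Y, ∃ i, y ∈ Us i)
  (hW : ∀ i, IsCompact ((q ⁻¹ᵁ Us i : X.Opens) : Set X))

include hP hcov in
theorem iSup_dp_eq_top :
    (⨆ s : {s : Σ i, Σ d : ℕ, 𝒜.presheaf.obj (op (Us i)) // 0 < s.2.1 ∧ s.2.2 ∈ 𝒜.deg (Us s.1) (hUs s.1) s.2.1},
      dp chart (Us s.1.1) (hUs s.1.1) s.1.2.2) = ⊤ := by
  refine eq_top_iff.2 fun x _ => ?_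
  obtain ⟨i, hi⟩ := hcov (p.base x)
  obtain ⟨d, f, hd, hf, hxf⟩ := exists_dp_mem hP (hUs i) hi
  exact Opens.mem_iSup.2 ⟨⟨⟨i, d, f⟩, hd, hf⟩, hxf⟩

include hjL hL hPL hP hr hUs hcov hW in
theorem quasiCompact_of_cover : QuasiCompact r := by
  refine IsZariskiLocalAtTarget.of_iSup_eq_top (P := @QuasiCompact) _ (iSup_dp_eq_top hP Us hUs hcov) ?_
  rintro ⟨⟨i, d, f⟩, hd, hf⟩
  have : IsAffine (dp chart (Us i) (hUs i) f : Scheme.{u}) := isAffineOpen_dp hd hf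
  rw [quasiCompact_iff_compactSpace]
  refine isCompact_iff_compactSpace.mp ?_
  have := isOpenImmersion_π hjL hL hPL u
  rw [preimage_dp hjL hL hPL hP u hr hd hf, (π u pL chartL).isOpenEmbedding.isInducing.isCompact_iff,
    ← Scheme.Hom.coe_image, Scheme.Hom.image_preimage_eq_opensRange_inf,
    inf_eq_right.2 fun x hx => nvU_le_range hjL hL hPL u hd hf hx]
  exact isCompact_nvU hjL hL u hf (hW i)

variable (hinj : ∀ i, Function.Injective (u.app (Us i)).hom)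

include hjL hL hPL hP hr hUs hcov hW hinj in
theorem isDominant_of_cover : IsDominant r := by
  refine ⟨dense_iff_inter_open.2 fun O hO ⟨x, hx⟩ => ?_⟩
  obtain ⟨i, hxU⟩ := hcov (p.base x)
  obtain ⟨d, f, hd, hf, hxf, hle⟩ := exists_dp_le hP (hUs i) hxU (O := ⟨O, hO⟩) hx
  obtain ⟨w, hw⟩ := nonempty_nvU_of_injective hjL hL u (hinj i) hd hf (hW i) (not_nilpotent_of_mem_dp hd hxf)
  obtain ⟨z, rfl⟩ := nvU_le_range hjL hL hPL u hd hf hw
  exact ⟨r.base z, hle ((mem_dp_iff hjL hL hPL hP u hr hd hf z).2 hw), z, rfl⟩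

include hjL hL hPL hP hr hUs hcov hW hinj in
theorem isSchemeTheoreticallyDominant_of_cover : IsSchemeTheoreticallyDominant r := by
  have := quasiCompact_of_cover hjL hL hPL hP u hr Us hUs hcov hW
  rw [isSchemeTheoreticallyDominant_iff]
  refine Scheme.IdealSheafData.ext_of_iSup_eq_top
    (fun s : {s : Σ i, Σ d : ℕ, 𝒜.presheaf.obj (op (Us i)) // 0 < s.2.1 ∧ s.2.2 ∈ 𝒜.deg (Us s.1) (hUs s.1) s.2.1} =>
      ⟨dp chart (Us s.1.1) (hUs s.1.1) s.1.2.2, isAffineOpen_dp s.2.1 s.2.2⟩)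
    (iSup_dp_eq_top hP Us hUs hcov) ?_
  rintro ⟨⟨i, d, f⟩, hd, hf⟩
  simp only [Scheme.Hom.ker_apply, Scheme.IdealSheafData.ideal_bot, Pi.bot_apply]
  exact (RingHom.injective_iff_ker_eq_bot _).1 ((bij_phi_iff hjL hL hPL hP u hr hd hf).2.2
    (injective_phi_of_injective hjL hL hPL hP u hr (hinj i) hd hf (hW i)))

variable (hb : ∀ i, Function.Bijective (u.app (Us i)).hom)
  (hA : ∀ i, CohB1.IsAmple ((Scheme.Modules.pullback (q ⁻¹ᵁ Us i).ι).obj L))

include hjL hL hPL hUs hcov hb hA in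
theorem domQ_eq_top_of_ample : RelProj.domQ u pL chartL = ⊤ :=
  mem_domQ_of_forall hjL hL hPL u fun x => by
    obtain ⟨i, hi⟩ := hcov (q.base x)
    obtain ⟨d, f, hd, hf, hxf, -⟩ := exists_affine_nvU (hU := hUs i) hjL hL u (hb i) (hA i) hi
    exact ⟨_, hUs i, d, f, hd, hf, hxf⟩

include hA in
theorem isQuasiSeparated_of_ample (i : ι) : IsQuasiSeparated ((q ⁻¹ᵁ Us i : X.Opens) : Set X) := by
  have := isSeparated_of_cover (hA i).1 (hA i).2.2
  exact (isQuasiSeparated_iff_quasiSeparatedSpace _ (q ⁻¹ᵁ Us i).2).2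
    (inferInstanceAs (QuasiSeparatedSpace ((q ⁻¹ᵁ Us i : X.Opens) : Scheme.{u})))

include hA in
theorem isCompact_of_ample (i : ι) : IsCompact ((q ⁻¹ᵁ Us i : X.Opens) : Set X) :=
  isCompact_iff_compactSpace.mpr (hA i).2.1

include hjL hL hPL hP hr hUs hcov hb hA in
theorem isOpenImmersion_of_ample : IsOpenImmersion r := by
  refine isOpenImmersion_of_cover_range r
    (fun s : {s : Σ i, Σ d : ℕ, 𝒜.presheaf.obj (op (Us i)) // 0 < s.2.1 ∧ s.2.2 ∈ 𝒜.deg (Us s.1) (hUs s.1) s.2.1 ∧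
        IsAffineOpen (nvU u (Us s.1) s.2.1 s.2.2)} => dp chart (Us s.1.1) (hUs s.1.1) s.1.2.2) (fun z => ?_) ?_
  · obtain ⟨i, hi⟩ := hcov (q.base ((π u pL chartL).base z))
    obtain ⟨d, f, hd, hf, hxf, haff⟩ := exists_affine_nvU (hU := hUs i) hjL hL u (hb i) (hA i) hi
    exact ⟨⟨⟨i, d, f⟩, hd, hf, haff⟩, (mem_dp_iff hjL hL hPL hP u hr hd hf z).2 hxf⟩
  · rintro ⟨⟨i, d, f⟩, hd, hf, haff⟩
    have := isIso_restrict hjL hL hPL hP u hr hd hf haff
      ⟨injective_phi_of_injective hjL hL hPL hP u hr (hb i).1 hd hf (isCompact_of_ample Us hA i),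
        surjective_phi_of_bijective hjL hL hPL hP u hr hd hf (isCompact_of_ample Us hA i) (hb i)
          (isQuasiSeparated_of_ample Us hA i)⟩
    infer_instance

end cover

end Groth.RLpsi
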