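import Groth.Agent.RLpsi.GenOne
import Groth.Agent.RLpsi.Colim
import Groth.Agent.RelVA.PushQHom
import Groth.Agent.RelVA.FTSub

/-!
# `r_{L,φ}` for symmetric algebras and finite type submodules
-/

universe u

open CategoryTheory CategoryTheory.Limits AlgebraicGeometry Opposite TopologicalSpace
open scoped HomogeneousIdeal

set_option backward.isDefEq.respectTransparency.types false

noncomputable section

namespace Groth.RLpsi

open Groth.PicAux Groth.RelTw Groth.RelVA

section sym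

open Groth.SymAlg Polynomial

variable {Y : Scheme.{u}} {E : Y.Modules} [E.IsQuasicoherent] {𝒯 : RelProj.QCGrAlg Y} {j : E ⟶ 𝒯.toModule}
  (hj : RelProj.IsGrSymAlg E 𝒯 j)

include hj in
/-- An algebra map out of a symmetric algebra, linear part in degree one, is graded. -/
theorem isGradedHom_of_deg_one {𝒜 : RelProj.QCGrAlg Y} (ψ : 𝒯.toQCAlg ⟶ 𝒜.toQCAlg)
    (h : ∀ (U : Y.Opens) (hU : IsAffineOpen U) (x : Γ(E, U)),
      (ψ.hom.app (op U)).hom (jel 𝒯 j U x) ∈ 𝒜.deg U hU 1) :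
    RelProj.IsGradedHom ψ := by
  intro U hU d x hx
  obtain ⟨t, ht, rfl⟩ := exists_eq_liftSec hj hU hx
  let F : SymmetricAlgebra Γ(Y, U) Γ(E, U) →+* 𝒜.presheaf.obj (op U) :=
    (ψ.hom.app (op U)).hom.comp (liftSec 𝒯.toQCAlg j U)
  suffices hF : ∀ t, Ega2Proj.GrCoact.co (𝒜.deg U hU) (F t) = (symCo Γ(Y, U) Γ(E, U) t).map F by
    have h1 := congrArg (fun P => Polynomial.coeff P d) (hF t)
    simp only [(mem_wt _).1 ht, Polynomial.map_monomial, Polynomial.coeff_monomial, if_true,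
      Ega2Proj.GrCoact.coeff_co] at h1
    change F t ∈ 𝒜.deg U hU d
    exact h1 ▸ SetLike.coe_mem _
  intro t
  induction t using SymmetricAlgebra.induction with
  | algebraMap r =>
    rw [symCo_algebraMap, Polynomial.map_C]
    refine (Ega2Proj.GrCoact.co_of_mem _ ?_).trans (by rw [Polynomial.monomial_zero_left])
    change (ψ.hom.app (op U)).hom _ ∈ _
    rw [liftSec_algebraMap]
    change (𝒯.str.app (op U) ≫ ψ.hom.app (op U)).hom r ∈ _
    rw [← NatTrans.comp_app, ψ.comm]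
    exact 𝒜.str_mem U hU r
  | ι e =>
    rw [symCo_ι, Polynomial.map_monomial]
    refine Ega2Proj.GrCoact.co_of_mem _ ?_
    change (ψ.hom.app (op U)).hom _ ∈ _
    rw [liftSec_ι]
    exact h U hU e
  | mul a b ha hb => rw [map_mul, map_mul, map_mul, ha, hb, Polynomial.map_mul]
  | add a b ha hb => rw [map_add, map_add, map_add, ha, hb, Polynomial.map_add]

include hj in
/-- Two algebra maps over `q` out of a symmetric algebra agree if they agree on the module. -/
theorem qHom_ext {X : Scheme.{u}} {q : X ⟶ Y} {B : RelProj.QCGrAlg X}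
    (a b : RelSpec.QHom q 𝒯.toQCAlg B.toQCAlg)
    (h : ∀ (U : Y.Opens) (x : Γ(E, U)), (a.app U).hom (jel 𝒯 j U x) = (b.app U).hom (jel 𝒯 j U x))
    (U : Y.Opens) : a.app U = b.app U := by
  refine CommRingCat.hom_ext (RingHom.ext fun x => ?_)
  have hcov : q ⁻¹ᵁ U ≤ ⨆ W : {W : Y.affineOpens // W.1 ≤ U}, q ⁻¹ᵁ W.1.1 := fun z hz => by
    obtain ⟨_, ⟨W, hW, rfl⟩, hzW, hWU⟩ := Y.isBasis_affineOpens.exists_subset_of_mem_open hz U.2
    exact Opens.mem_iSup.2 ⟨⟨⟨W, hW⟩, hWU⟩, hzW⟩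
  refine eq_of_locally _ (fun W => q.preimage_mono W.2) hcov fun W => ?_
  refine congr(($(a.naturality W.2)).hom x).trans (Eq.trans ?_ congr(($(b.naturality W.2)).hom x).symm)
  rw [CommRingCat.comp_apply, CommRingCat.comp_apply]
  obtain ⟨t, ht⟩ := (Groth.SymAlg.bijective_liftSec hj.1 W.1.2).2 ((𝒯.presheaf.map (homOfLE W.2).op).hom x)
  rw [← ht]
  clear ht
  induction t using SymmetricAlgebra.induction with
  | algebraMap r =>
    rw [liftSec_algebraMap]
    exact congr(($(a.str_app W.1.1)).hom r).trans congr(($(b.str_app W.1.1)).hom r).symm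
  | ι e => rw [liftSec_ι]; exact h W.1.1 e
  | mul c e hc he => rw [map_mul, map_mul, map_mul, hc, he]
  | add c e hc he => rw [map_add, map_add, map_add, hc, he]

end sym

variable {X Y P PL : Scheme.{u}} {q : X ⟶ Y} {L : X.Modules} [L.IsQuasicoherent]
  {𝒮L : RelProj.QCGrAlg X} {jL : L ⟶ 𝒮L.toModule} (hjL : RelProj.IsGrSymAlg L 𝒮L jL)
  (hL : PicF.IsInvertible L)
  {F : Y.Modules} {𝒯 : RelProj.QCGrAlg Y} {j : F ⟶ 𝒯.toModule} (hj : RelProj.IsGrSymAlg F 𝒯 j)
  (u : RelProj.QGrHom q 𝒯 𝒮L)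

include hjL hL hj in
/-- The linear system of a graded map out of a symmetric algebra. -/
theorem exists_symLinData : ∃ φ : F ⟶ (Scheme.Modules.pushforward q).obj L,
    ∀ (U : Y.Opens) (x : Γ(F, U)), (u.app U).hom (jel 𝒯 j U x) = jel 𝒮L jL (q ⁻¹ᵁ U) (φ.app U x) := by
  have hex : ∀ (U : Y.Opens) (hU : IsAffineOpen U) (x : Γ(F, U)),
      ∃ s : Γ(L, q ⁻¹ᵁ U), jel 𝒮L jL (q ⁻¹ᵁ U) s = (u.app U).hom (jel 𝒯 j U x) :=
    fun U hU x => exists_section hjL hL u (hU := hU) (hj.2 U hU x)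
  choose f hf using hex
  obtain ⟨φ, hφ⟩ := Groth.LocFree.exists_hom_of_affine (L := F)
    (M := (Scheme.Modules.pushforward q).obj L)
    (fun U hU =>
      { toFun := f U hU
        map_add' := fun a b => jel_inj hjL hL (by
          refine (hf U hU (a + b)).trans (Eq.trans ?_ (map_add (jL.app (q ⁻¹ᵁ U)).hom _ _).symm)
          refine Eq.trans ?_ (congrArg₂ (· + ·) (hf U hU a) (hf U hU b)).symm
          rw [← map_add]
          exact congrArg (u.app U).hom (map_add (j.app U).hom a b))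
        map_smul' := fun r a => jel_inj hjL hL (by
          refine (hf U hU (r • a)).trans (Eq.trans ?_ (jL.app_smul (q.app U r) (f U hU a)).symm)
          refine Eq.trans ?_ (congrArg (sc 𝒮L (q ⁻¹ᵁ U) (q.app U r) * ·) (hf U hU a)).symm
          rw [show jel 𝒯 j U (r • a) = (𝒯.str.app (op U)).hom r * jel 𝒯 j U a from j.app_smul r a, map_mul]
          exact congrArg (· * _) congr(($(u.toQHom.str_app U)).hom r)) })
    (fun U V hU hV h x => by
      refine jel_inj hjL hL (((PicAux.app_res jL (q.preimage_mono h) (f U hU x)).trans ?_).trans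
        (hf V hV (res F h x)).symm)
      refine (congrArg (rs 𝒮L (q.preimage_mono h)) (hf U hU x)).trans ?_
      refine congr(($(u.toQHom.naturality h)).hom (jel 𝒯 j U x)).trans ?_
      exact congrArg (u.app V).hom (PicAux.app_res j h x).symm)
  refine ⟨φ, fun U x => ?_⟩
  have hcov : q ⁻¹ᵁ U ≤ ⨆ W : {W : Y.affineOpens // W.1 ≤ U}, q ⁻¹ᵁ W.1.1 := fun z hz => by
    obtain ⟨_, ⟨W, hW, rfl⟩, hzW, hWU⟩ := Y.isBasis_affineOpens.exists_subset_of_mem_open hz U.2
    exact Opens.mem_iSup.2 ⟨⟨⟨W, hW⟩, hWU⟩, hzW⟩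
  refine eq_of_locally _ (fun W => q.preimage_mono W.2) hcov fun W => ?_
  rw [rs_jel]
  refine congr(($(u.toQHom.naturality W.2)).hom (jel 𝒯 j U x)).trans ?_
  refine (congrArg (u.app W.1.1).hom (PicAux.app_res j W.2 x).symm).trans ?_
  refine ((congrArg (jel 𝒮L jL (q ⁻¹ᵁ W.1.1)) (hφ W.1.1 W.1.2 (res F W.2 x))).trans (hf W.1.1 W.1.2 _)).symm.trans ?_
  exact congrArg (jel 𝒮L jL (q ⁻¹ᵁ W.1.1)) (PicAux.app_res φ W.2 x)

/-- A map to the direct image as a linear system. -/
def homData (φ : F ⟶ (Scheme.Modules.pushforward q).obj L) : LinData q F L := compData (canonData q L) φ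

end Groth.RLpsi
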